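import Cfsg.Prelude.Def_Involutions
import Mathlib.GroupTheory.SchurZassenhaus
import Mathlib.GroupTheory.Sylow
import Mathlib.GroupTheory.OrderOfElement
import Mathlib.Algebra.Group.Subgroup.Pointwise
import Mathlib.GroupTheory.Perm.Cycle.Type

/-!
# π-homogeneous groups with 2-closed π-subgroups: definitions

`Hyp π G` gathers the hypotheses; `Closed π U` says that the π'-elements of `U` form a subgroup.
-/

set_option autoImplicit false
set_option linter.style.haveILetI false
set_option linter.unusedSectionVars false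

namespace Cfsg.Lib.PiHom

open scoped Pointwise

universe u

variable {π : Set ℕ} {G : Type u} [Group G]

/-- All primes dividing the order of the subgroup lie in `π`. -/
def PiGrp (π : Set ℕ) (H : Subgroup G) : Prop :=
  ∀ p : ℕ, p.Prime → p ∣ Nat.card H → p ∈ π

/-- No prime dividing the order of the element lies in `π`. -/
def CoPi (π : Set ℕ) (x : G) : Prop :=
  ∀ p : ℕ, p.Prime → p ∣ orderOf x → p ∉ π

/-- The π'-elements form a subgroup. -/
def Closed (π : Set ℕ) (G : Type u) [Group G] : Prop :=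
  ∃ K : Subgroup G, ∀ x : G, x ∈ K ↔ CoPi π x

/-- The hypotheses of the theorem. -/
structure Hyp (π : Set ℕ) (G : Type u) [Group G] : Prop where
  two : 2 ∈ π
  cl : ∀ H : Subgroup G, PiGrp π H → ∀ P : Sylow 2 ↥H, (P : Subgroup ↥H).Normal
  hom : ∀ H : Subgroup G, H ≠ ⊥ → PiGrp π H → ∀ p : ℕ, p.Prime →
    p ∣ (Subgroup.centralizer (H : Set G)).relIndex (Subgroup.normalizer (H : Set G)) → p ∈ π

/-- The subgroup generated by the π'-elements of `U`. -/
def core (π : Set ℕ) (U : Subgroup G) : Subgroup G :=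
  Subgroup.closure {x | x ∈ U ∧ CoPi π x}

theorem coPi_one : CoPi π (1 : G) := fun p hp h => by
  rw [orderOf_one] at h; exact absurd (Nat.dvd_one.1 h) hp.ne_one

theorem coPi_map_iff {H : Type*} [Group H] (f : H →* G) (hf : Function.Injective f) (x : H) :
    CoPi π (f x) ↔ CoPi π x := by
  simp only [CoPi, orderOf_injective f hf]

theorem coPi_conj (g x : G) : CoPi π (g * x * g⁻¹) ↔ CoPi π x :=
  coPi_map_iff (MulAut.conj g).toMonoidHom (MulAut.conj g).injective x

theorem coPi_inv (x : G) : CoPi π x⁻¹ ↔ CoPi π x := by simp [CoPi]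

theorem piGrp_of_le {H K : Subgroup G} (h : H ≤ K) (hK : PiGrp π K) : PiGrp π H :=
  fun p hp hd => hK p hp (hd.trans (Subgroup.card_dvd_of_le h))

theorem piGrp_map {H : Type*} [Group H] (f : H →* G) {S : Subgroup H}
    (hS : ∀ p : ℕ, p.Prime → p ∣ Nat.card S → p ∈ π) : PiGrp π (S.map f) :=
  fun p hp hd => hS p hp (hd.trans (Subgroup.card_map_dvd _ f))

theorem piGrp_of_two (h2 : 2 ∈ π) {S : Subgroup G} [Finite S] (hS : IsPGroup 2 S) : PiGrp π S := by
  obtain ⟨k, hk⟩ := IsPGroup.iff_card.1 hS
  intro p hp hd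
  rw [hk] at hd
  rw [(Nat.prime_dvd_prime_iff_eq hp Nat.prime_two).1 (hp.dvd_of_dvd_pow hd)]
  exact h2

theorem coPi_odd (h2 : 2 ∈ π) {x : G} (hx : CoPi π x) : ¬ 2 ∣ orderOf x :=
  fun h => hx 2 Nat.prime_two h h2

theorem eq_one_of_coPi_of_piGrp {H : Subgroup G} (hH : PiGrp π H) {x : G} (hxH : x ∈ H)
    (hx : CoPi π x) : x = 1 := by
  by_contra h
  obtain ⟨p, hp, hpd⟩ := Nat.exists_prime_and_dvd (n := orderOf x) (fun e => h (orderOf_eq_one_iff.1 e))
  refine hx p hp hpd (hH p hp (hpd.trans ?_))
  exact Subgroup.orderOf_dvd_natCard _ hxH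

variable [Finite G]

namespace Hyp

variable (h : Hyp π G)
include h

/-- A π'-element normalizing a π-subgroup centralizes it. -/
theorem coPi_centralizes {H : Subgroup G} (hH : PiGrp π H) {y : G} (hy : CoPi π y)
    (hn : y ∈ Subgroup.normalizer (H : Set G)) : y ∈ Subgroup.centralizer (H : Set G) := by
  by_cases hbot : H = ⊥
  · subst hbot; simp [Subgroup.mem_centralizer_iff]
  haveI : ((Subgroup.centralizer (H : Set G)).subgroupOf (Subgroup.normalizer (H : Set G))).Normal :=
    Subgroup.normal_subgroupOf_of_le_normalizer fun z hz =>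
      Subgroup.mem_normalizer_iff.2 fun w => by
        constructor
        · intro hw
          rw [Subgroup.mem_centralizer_iff] at hw ⊢
          intro a ha
          have h1 : z⁻¹ * a * z ∈ H := by
            have := (Subgroup.mem_normalizer_iff.1 (inv_mem hz) a).1 ha
            rwa [inv_inv] at this
          have := hw _ h1
          calc a * (z * w * z⁻¹) = z * ((z⁻¹ * a * z) * w) * z⁻¹ := by group
            _ = z * (w * (z⁻¹ * a * z)) * z⁻¹ := by rw [this]
            _ = (z * w * z⁻¹) * a := by group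
        · intro hw
          rw [Subgroup.mem_centralizer_iff] at hw ⊢
          intro a ha
          have := hw _ ((Subgroup.mem_normalizer_iff.1 hz a).1 ha)
          calc a * w = z⁻¹ * ((z * a * z⁻¹) * (z * w * z⁻¹)) * z := by group
            _ = z⁻¹ * ((z * w * z⁻¹) * (z * a * z⁻¹)) * z := by rw [this]
            _ = w * a := by group
  have h1 : orderOf (QuotientGroup.mk (⟨y, hn⟩ : Subgroup.normalizer (H : Set G)) :
      _ ⧸ (Subgroup.centralizer (H : Set G)).subgroupOf (Subgroup.normalizer (H : Set G))) = 1 := by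
    by_contra hne
    obtain ⟨p, hp, hpd⟩ := Nat.exists_prime_and_dvd hne
    refine hy p hp (hpd.trans ?_) (h.hom H hbot hH p hp (hpd.trans ?_))
    · have := orderOf_map_dvd (QuotientGroup.mk' ((Subgroup.centralizer (H : Set G)).subgroupOf
        (Subgroup.normalizer (H : Set G)))) (⟨y, hn⟩ : Subgroup.normalizer (H : Set G))
      rwa [Subgroup.orderOf_mk] at this
    · rw [Subgroup.relIndex, Subgroup.index]
      exact orderOf_dvd_natCard _
  have h2 := (QuotientGroup.eq_one_iff _).1 (orderOf_eq_one_iff.1 h1)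
  exact Subgroup.mem_subgroupOf.1 h2

/-- An element of 2-power order normalizing an odd π-subgroup centralizes it. -/
theorem two_centralizes {Q : Subgroup G} (hQ : PiGrp π Q) (hodd : Odd (Nat.card Q)) {u : G}
    (hu : ∃ k : ℕ, orderOf u = 2 ^ k) (hn : u ∈ Subgroup.normalizer (Q : Set G)) :
    u ∈ Subgroup.centralizer (Q : Set G) := by
  set H := Q ⊔ Subgroup.zpowers u with hH
  have hle : Subgroup.zpowers u ≤ Subgroup.normalizer (Q : Set G) := Subgroup.zpowers_le.2 hn
  obtain ⟨k, hk⟩ := hu
  have hHpi : PiGrp π H := by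
    intro p hp hd
    have hd2 : p ∣ Nat.card Q * Nat.card (Subgroup.zpowers u) := hd.trans ?_
    · rcases hp.dvd_mul.1 hd2 with h1 | h1
      · exact hQ p hp h1
      · rw [Nat.card_zpowers, hk] at h1
        rw [(Nat.prime_dvd_prime_iff_eq hp Nat.prime_two).1 (hp.dvd_of_dvd_pow h1)]
        exact h.two
    · haveI : (Q.subgroupOf H).Normal :=
        Subgroup.normal_subgroupOf_of_le_normalizer (sup_le Subgroup.le_normalizer hle)
      rw [← Subgroup.card_mul_index (Q.subgroupOf H),
        Nat.card_congr (Subgroup.subgroupOfEquivOfLe (le_sup_left : Q ≤ H)).toEquiv]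
      refine mul_dvd_mul_left _ ?_
      have hsurj : Function.Surjective ((QuotientGroup.mk' (Q.subgroupOf H)).comp
          (Subgroup.inclusion (le_sup_right : Subgroup.zpowers u ≤ H))) := by
        intro x
        obtain ⟨z, rfl⟩ := QuotientGroup.mk'_surjective _ x
        have hz : (z : G) ∈ ((Subgroup.zpowers u : Set G) * (Q : Set G)) := by
          rw [← Subgroup.coe_mul_of_left_le_normalizer_right _ _ hle]
          rw [sup_comm]; exact z.2
        obtain ⟨a, ha, b, hb, hab⟩ := hz
        refine ⟨⟨a, ha⟩, ?_⟩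
        rw [MonoidHom.comp_apply, QuotientGroup.mk'_eq_mk']
        exact ⟨⟨b, le_sup_left (a := Q) hb⟩, Subgroup.mem_subgroupOf.2 hb, Subtype.ext (by
          simpa using hab)⟩
      exact Subgroup.card_dvd_of_surjective _ hsurj
  rw [Subgroup.mem_centralizer_iff]
  intro q hq
  haveI : Fact (Nat.Prime 2) := ⟨Nat.prime_two⟩
  have huH : u ∈ H := le_sup_right (a := Q) (Subgroup.mem_zpowers u)
  have hqH : q ∈ H := le_sup_left (b := Subgroup.zpowers u) hq
  obtain ⟨P, hP⟩ := (IsPGroup.of_card (p := 2) (n := k)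
    (by rw [Nat.card_zpowers, Subgroup.orderOf_mk, hk]) :
      IsPGroup 2 (Subgroup.zpowers (⟨u, huH⟩ : H))).exists_le_sylow
  haveI := h.cl H hHpi P
  have huP : (⟨u, huH⟩ : H) ∈ (P : Subgroup H) := hP (Subgroup.mem_zpowers _)
  have hc : (⟨q, hqH⟩ : H) * ⟨u, huH⟩ * (⟨q, hqH⟩ : H)⁻¹ * (⟨u, huH⟩ : H)⁻¹ ∈ (P : Subgroup H) :=
    mul_mem (Subgroup.Normal.conj_mem inferInstance _ huP _) (inv_mem huP)
  have hcQ : q * u * q⁻¹ * u⁻¹ ∈ Q := by
    have : u * q⁻¹ * u⁻¹ ∈ Q := (Subgroup.mem_normalizer_iff.1 hn _).1 (inv_mem hq)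
    have := mul_mem hq this
    simpa [mul_assoc] using this
  obtain ⟨j, hj⟩ := IsPGroup.iff_orderOf.1 P.isPGroup' ⟨_, hc⟩
  rw [Subgroup.orderOf_mk, ← Subgroup.orderOf_coe] at hj
  simp only [Subgroup.coe_mul, InvMemClass.coe_inv] at hj
  have hd : orderOf (q * u * q⁻¹ * u⁻¹) ∣ Nat.card Q := Subgroup.orderOf_dvd_natCard _ hcQ
  rw [hj] at hd
  have : j = 0 := by
    by_contra hj0
    exact (Nat.not_even_iff_odd.2 hodd) (even_iff_two_dvd.2 ((dvd_pow_self 2 hj0).trans hd))
  rw [this, pow_zero, orderOf_eq_one_iff] at hj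
  calc q * u = (q * u * q⁻¹ * u⁻¹) * (u * q) := by group
    _ = u * q := by rw [hj, one_mul]

theorem subgroup (U : Subgroup G) : Hyp π ↥U where
  two := h.two
  cl H hH P := by
    have e : ↥H ≃* ↥(H.map U.subtype) := H.equivMapOfInjective U.subtype U.subtype_injective
    have hH' : PiGrp π (H.map U.subtype) := piGrp_map _ hH
    haveI := h.cl _ hH' (P.comapOfInjective e.symm.toMonoidHom e.symm.injective (by
      rw [MonoidHom.range_eq_top.2 e.symm.surjective]; exact le_top))
    have h2 := this.comap e.toMonoidHom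
    have heq : Subgroup.comap e.toMonoidHom
        ((P.comapOfInjective e.symm.toMonoidHom e.symm.injective (by
          rw [MonoidHom.range_eq_top.2 e.symm.surjective]; exact le_top) :
            Sylow 2 ↥(H.map U.subtype)) : Subgroup ↥(H.map U.subtype)) = (P : Subgroup ↥H) := by
      show Subgroup.comap e.toMonoidHom ((P : Subgroup ↥H).comap e.symm.toMonoidHom) = _
      ext x
      simp
    rwa [heq] at h2
  hom H hne hH p hp hd := by
    have hH' : PiGrp π (H.map U.subtype) := piGrp_map _ hH
    refine h.hom _ ((Subgroup.map_eq_bot_iff_of_injective H U.subtype_injective).not.2 hne) hH' p hp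
      (hd.trans ?_)
    set C := Subgroup.centralizer ((H.map U.subtype : Subgroup G) : Set G)
    set N := Subgroup.normalizer ((H.map U.subtype : Subgroup G) : Set G)
    have hN : (Subgroup.normalizer (H : Set ↥U)).map U.subtype ≤ N := by
      rintro _ ⟨x, hx, rfl⟩
      rw [Subgroup.mem_normalizer_iff]
      intro a
      constructor
      · rintro ⟨b, hb, rfl⟩
        exact ⟨x * b * x⁻¹, (Subgroup.mem_normalizer_iff.1 hx b).1 hb, by simp⟩
      · rintro ⟨b, hb, e⟩
        refine ⟨x⁻¹ * b * x, ?_, ?_⟩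
        · have := (Subgroup.mem_normalizer_iff.1 (inv_mem hx) b).1 hb
          rwa [inv_inv] at this
        · rw [map_mul, map_mul, map_inv, e]; simp only [Subgroup.coe_subtype]; group
    have hC : Subgroup.centralizer (H : Set ↥U) = C.subgroupOf U := by
      ext x
      simp only [C, Subgroup.mem_subgroupOf, Subgroup.mem_centralizer_iff, SetLike.mem_coe,
        Subgroup.mem_map]
      constructor
      · rintro hx _ ⟨b, hb, rfl⟩
        simpa using congrArg Subtype.val (hx b hb)
      · intro hx b hb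
        exact Subtype.ext (by simpa using hx b ⟨b, hb, rfl⟩)
    rw [hC]
    rw [← Subgroup.relIndex_map_map_of_injective (C.subgroupOf U) _ U.subtype_injective,
      Subgroup.subgroupOf_map_subtype]
    haveI : (C.subgroupOf N).Normal := by
      refine Subgroup.normal_subgroupOf_of_le_normalizer fun z hz => ?_
      rw [Subgroup.mem_normalizer_iff]
      intro w
      simp only [C, Subgroup.mem_centralizer_iff, SetLike.mem_coe]
      constructor
      · intro hw a ha
        have h1 := hw (z⁻¹ * a * z) (by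
          have := (Subgroup.mem_normalizer_iff.1 (inv_mem hz) a).1 ha; rwa [inv_inv] at this)
        calc a * (z * w * z⁻¹) = z * ((z⁻¹ * a * z) * w) * z⁻¹ := by group
          _ = z * (w * (z⁻¹ * a * z)) * z⁻¹ := by rw [h1]
          _ = (z * w * z⁻¹) * a := by group
      · intro hw a ha
        have h1 := hw _ ((Subgroup.mem_normalizer_iff.1 hz a).1 ha)
        calc a * w = z⁻¹ * ((z * a * z⁻¹) * (z * w * z⁻¹)) * z := by group
          _ = z⁻¹ * ((z * w * z⁻¹) * (z * a * z⁻¹)) * z := by rw [h1]
          _ = w * a := by group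
    set M := (Subgroup.normalizer (H : Set ↥U)).map U.subtype
    have e1 : (C ⊓ U).subgroupOf M = C.subgroupOf M := by
      ext ⟨x, hx⟩
      have hxU : x ∈ U := by obtain ⟨y, -, rfl⟩ := hx; exact y.2
      simp [Subgroup.mem_subgroupOf, hxU]
    rw [Subgroup.relIndex, e1, ← Subgroup.relIndex, ← Subgroup.relIndex_subgroupOf hN]
    exact Subgroup.relIndex_dvd_index_of_normal _ _

end Hyp

end Cfsg.Lib.PiHom
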