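import Cfsg.Agent.Lib.PiHom.Structure
import Cfsg.Agent.Lib.Fusion.Alperin

/-!
# Fusion in a minimal counterexample

The normalizer of a Sylow 2-subgroup controls fusion in it.
-/

set_option autoImplicit false
set_option linter.style.haveILetI false
set_option linter.unusedSectionVars false

namespace Cfsg.Lib.PiHom

universe u

variable {π : Set ℕ} {G : Type u} [Group G] [Finite G]

namespace Min

variable (h : Min π G)
include h

theorem piGrp_ne_top {P : Subgroup G} (hP : PiGrp π P) : P ≠ ⊤ := by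
  intro e
  refine h.notClosed ⟨⊥, fun x => ⟨fun hx => ?_, fun hx => ?_⟩⟩
  · rw [Subgroup.mem_bot.1 hx]; exact coPi_one
  · exact Subgroup.mem_bot.2 (eq_one_of_coPi_of_piGrp (H := P) hP (e ▸ Subgroup.mem_top x) hx)

theorem two_ne_top {P : Subgroup G} (hP : IsPGroup 2 P) : P ≠ ⊤ :=
  h.piGrp_ne_top (piGrp_of_two h.two hP)

theorem normalizer_ne_top {P : Subgroup G} (h1 : P ≠ ⊥) (h2 : P ≠ ⊤) :
    Subgroup.normalizer (P : Set G) ≠ ⊤ := by
  intro e
  have hn : P.Normal := Subgroup.normalizer_eq_top_iff.1 e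
  haveI := h.simple
  exact (IsSimpleGroup.eq_bot_or_eq_top_of_normal P hn).elim h1 h2

theorem even_card : Even (Nat.card G) := by
  by_contra hc
  haveI := Cfsg.Agent.S0205.result (G := G) (Nat.not_even_iff_odd.1 hc)
  haveI := h.simple
  exact h.noncomm ⟨⟨IsSimpleGroup.comm_iff_isSolvable.2 inferInstance⟩⟩

theorem sylow_ne_bot (S : Sylow 2 G) : (S : Subgroup G) ≠ ⊥ := by
  haveI : Fact (Nat.Prime 2) := ⟨Nat.prime_two⟩
  exact S.ne_bot_of_dvd_card (even_iff_two_dvd.1 h.even_card)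

/-- The normalizer of a Sylow 2-subgroup controls fusion. -/
theorem fusion (S : Sylow 2 G) (P : Subgroup G) (hP : P ≤ (S : Subgroup G)) (g : G)
    (hg : ∀ x ∈ P, g * x * g⁻¹ ∈ (S : Subgroup G)) :
    ∃ n ∈ Subgroup.normalizer ((S : Subgroup G) : Set G), ∀ x ∈ P, n * x * n⁻¹ = g * x * g⁻¹ := by
  haveI : Fact (Nat.Prime 2) := ⟨Nat.prime_two⟩
  suffices H : ∀ m : ℕ, ∀ P : Subgroup G, Nat.card (S : Subgroup G) - Nat.card P = m →
      P ≤ (S : Subgroup G) → ∀ g : G, (∀ x ∈ P, g * x * g⁻¹ ∈ (S : Subgroup G)) →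
      ∃ n ∈ Subgroup.normalizer ((S : Subgroup G) : Set G), ∀ x ∈ P, n * x * n⁻¹ = g * x * g⁻¹ from
    H _ P rfl hP g hg
  clear hg g hP P
  intro m
  induction m using Nat.strong_induction_on with
  | _ m ih =>
  intro P hm hP g hg
  by_cases hbot : P = ⊥
  · subst hbot
    exact ⟨1, one_mem _, fun x hx => by simp [Subgroup.mem_bot.1 hx]⟩
  by_cases htop : P = (S : Subgroup G)
  · subst htop
    refine ⟨g, ?_, fun x _ => rfl⟩
    have hmap : (S : Subgroup G).map (MulAut.conj g).toMonoidHom = (S : Subgroup G) :=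
      Subgroup.eq_of_le_of_card_ge (by rintro _ ⟨x, hx, rfl⟩; exact hg x hx)
        (by rw [Subgroup.card_map_of_injective (MulAut.conj g).injective])
    rw [Subgroup.mem_normalizer_iff]
    refine fun x => ⟨hg x, fun hx => ?_⟩
    rw [← hmap] at hx
    obtain ⟨y, hy, e⟩ := hx
    rwa [← (MulAut.conj g).injective (show MulAut.conj g y = MulAut.conj g x from e)]
  have hlt : P < (S : Subgroup G) := lt_of_le_of_ne hP htop
  have hP2 : IsPGroup 2 P := S.isPGroup'.to_le hP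
  set U := Subgroup.normalizer (P : Set G)
  have hU : U ≠ ⊤ := h.normalizer_ne_top hbot (h.two_ne_top hP2)
  set R1 := (S : Subgroup G) ⊓ U
  have hR1 : P < R1 := Cfsg.Lib.Fusion.lt_inf_normalizer S.isPGroup' hlt
  set T := (S : Subgroup G).map (MulAut.conj g⁻¹).toMonoidHom
  have hPT : P ≤ T := fun x hx => ⟨g * x * g⁻¹, hg x hx, by simp [mul_assoc]⟩
  have hTcard : Nat.card T = Nat.card (S : Subgroup G) :=
    Subgroup.card_map_of_injective (MulAut.conj g⁻¹).injective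
  set R2 := T ⊓ U
  have hR2 : P < R2 := Cfsg.Lib.Fusion.lt_inf_normalizer (S.isPGroup'.map _)
    (lt_of_le_of_ne hPT fun e => (Cfsg.Lib.Fusion.card_lt_card_of_lt hlt).ne (by rw [← hTcard, e]))
  obtain ⟨Q0, hQ0⟩ := ((S.isPGroup'.to_le inf_le_left :
    IsPGroup 2 R1).comap_of_injective U.subtype U.subtype_injective).exists_le_sylow
  obtain ⟨Q1, hQ1⟩ := (((S.isPGroup'.map _).to_le inf_le_left :
    IsPGroup 2 R2).comap_of_injective U.subtype U.subtype_injective).exists_le_sylow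
  obtain ⟨w, hw⟩ := MulAction.exists_smul_eq U Q0 Q1
  obtain ⟨k, hk, n, hnU, hn, hkn⟩ := h.exists_core_mul hU Q0 w.2
  set Q : Subgroup G := (Q0 : Subgroup U).map U.subtype
  obtain ⟨R, hR⟩ := (Q0.isPGroup'.map U.subtype : IsPGroup 2 Q).exists_le_sylow
  obtain ⟨c, hc⟩ := MulAction.exists_smul_eq G R S
  have hQS : ∀ x ∈ Q, c * x * c⁻¹ ∈ (S : Subgroup G) := by
    intro x hx
    rw [← hc, Sylow.coe_subgroup_smul]
    exact ⟨x, hR hx, by simp [MulAut.smul_def]⟩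
  have hR1Q : ∀ x ∈ R1, x ∈ Q := fun x hx =>
    ⟨⟨x, hx.2⟩, hQ0 (Subgroup.mem_comap.2 hx), rfl⟩
  have hR2Q : ∀ x ∈ R2, k⁻¹ * x * k ∈ Q := by
    intro x hx
    have h1 : (⟨x, hx.2⟩ : U) ∈ (Q1 : Subgroup U) := hQ1 (Subgroup.mem_comap.2 hx)
    rw [← hw, Sylow.coe_subgroup_smul] at h1
    obtain ⟨y, hy, e⟩ := h1
    have e' : (w : G) * y * (w : G)⁻¹ = x := by
      simpa [MulAut.smul_def] using congrArg Subtype.val e
    have : n * (y : G) * n⁻¹ ∈ Q := (Subgroup.mem_normalizer_iff.1 hn _).1 ⟨y, hy, rfl⟩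
    rw [← e', hkn]
    simpa [mul_assoc] using this
  have hkC : ∀ x ∈ P, k⁻¹ * x * k = x := by
    intro x hx
    have hk' := (h.mem_core hU).1 hk
    have := Subgroup.mem_centralizer_iff.1
      (h.coPi_centralizes (piGrp_of_two h.two hP2) hk'.2 hk'.1) x hx
    rw [mul_assoc, this, inv_mul_cancel_left]
  obtain ⟨n1, hn1, he1⟩ := ih (Nat.card (S : Subgroup G) - Nat.card R1) (by
      have := Cfsg.Lib.Fusion.card_lt_card_of_lt hR1
      have := Cfsg.Lib.Fusion.card_lt_card_of_lt hlt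
      omega) R1 rfl inf_le_left c fun x hx => hQS x (hR1Q x hx)
  set R3 := R2.map (MulAut.conj g).toMonoidHom
  have hR3 : R3 ≤ (S : Subgroup G) := by
    rintro _ ⟨x, ⟨⟨y, hy, rfl⟩, -⟩, rfl⟩
    have e : g * (g⁻¹ * y * g⁻¹⁻¹) * g⁻¹ = y := by group
    show g * (g⁻¹ * y * g⁻¹⁻¹) * g⁻¹ ∈ (S : Subgroup G)
    rw [e]; exact hy
  obtain ⟨n2, hn2, he2⟩ := ih (Nat.card (S : Subgroup G) - Nat.card R3) (by
      have := Cfsg.Lib.Fusion.card_lt_card_of_lt hR2
      have := Cfsg.Lib.Fusion.card_lt_card_of_lt hlt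
      have : Nat.card R3 = Nat.card R2 :=
        Subgroup.card_map_of_injective (MulAut.conj g).injective
      omega) R3 rfl hR3 (c * k⁻¹ * g⁻¹) (by
      rintro _ ⟨x, hx, rfl⟩
      have := hQS _ (hR2Q x hx)
      simpa [mul_assoc] using this)
  refine ⟨n2⁻¹ * n1, mul_mem (inv_mem hn2) hn1, fun x hx => ?_⟩
  have a1 := he1 x (hR1.le hx)
  have a2 : n2 * (g * x * g⁻¹) * n2⁻¹ = c * (k⁻¹ * x * k) * c⁻¹ := by
    have := he2 (g * x * g⁻¹) ⟨x, hR2.le hx, rfl⟩
    rw [this]; group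
  rw [hkC x hx, ← a1] at a2
  calc n2⁻¹ * n1 * x * (n2⁻¹ * n1)⁻¹ = n2⁻¹ * (n1 * x * n1⁻¹) * n2 := by group
    _ = g * x * g⁻¹ := by rw [← a2]; group

end Min

end Cfsg.Lib.PiHom
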