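import Cfsg.Agent.Lib.PiHom.Defs
import Mathlib.GroupTheory.Subgroup.Simple

/-!
# The minimal counterexample

A simple group satisfying the hypotheses, all of whose proper subgroups have their π'-elements forming
a subgroup, and which does not have this property itself.
-/

set_option autoImplicit false

namespace Cfsg.Lib.PiHom

universe u

variable {π : Set ℕ} {G : Type u} [Group G]

/-- A minimal counterexample. -/
structure Min (π : Set ℕ) (G : Type u) [Group G] : Prop extends Hyp π G where
  simple : IsSimpleGroup G
  noncomm : ¬ IsMulCommutative G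
  closed : ∀ U : Subgroup G, U ≠ ⊤ → Closed π ↥U
  notClosed : ¬ Closed π G

/-- The Sylow 2-subgroup has exactly three involutions, these are central and permuted transitively
by the normalizer; `E` is the four-group they generate. -/
structure Three (π : Set ℕ) (S : Sylow 2 G) (E : Subgroup G) : Prop where
  le : E ≤ (S : Subgroup G)
  card : Nat.card E = 4
  sq : ∀ e ∈ E, e * e = 1
  invol : ∀ x ∈ (S : Subgroup G), x * x = 1 → x ∈ E
  central : ∀ e ∈ E, ∀ x ∈ (S : Subgroup G), Commute e x
  trans : ∀ a ∈ E, ∀ b ∈ E, a ≠ 1 → b ≠ 1 →
    ∃ n ∈ Subgroup.normalizer ((S : Subgroup G) : Set G), n * a * n⁻¹ = b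

end Cfsg.Lib.PiHom
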