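import Cfsg.Agent.Lib.PiHom.Structure
import Cfsg.Agent.Lib.Coprime.Conjugacy

/-!
# Reduction to a minimal counterexample

`auto_of_closed` is the easy direction; `closed_of_hyp` reduces the hard one to the non-existence of
a minimal counterexample.
-/

set_option autoImplicit false
set_option linter.style.haveILetI false
set_option linter.unusedSectionVars false

namespace Cfsg.Lib.PiHom

open scoped Pointwise

universe u

variable {π : Set ℕ} {G : Type u} [Group G] [Finite G]

theorem coPi_of_dvd {G' : Type*} [Group G'] {x : G} {y : G'} (hx : CoPi π x)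
    (hd : orderOf y ∣ orderOf x) : CoPi π y :=
  fun p hp hpd => hx p hp (hpd.trans hd)

theorem coPi_mul {x y : G} (hxy : Commute x y) (hx : CoPi π x) (hy : CoPi π y) : CoPi π (x * y) :=
  fun p hp hpd => by
    rcases hp.dvd_mul.1 (hpd.trans hxy.orderOf_mul_dvd_mul_orderOf) with h | h
    exacts [hx p hp h, hy p hp h]

/-- A π'-element of an image lifts to a π'-element among the powers of any preimage. -/
theorem exists_coPi_lift {G' : Type*} [Group G'] (f : G →* G') (y : G) (hy : CoPi π (f y)) :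
    ∃ k : ℕ, CoPi π (y ^ k) ∧ f (y ^ k) = f y := by
  suffices H : ∀ n : ℕ, ∀ y : G, orderOf y = n → CoPi π (f y) →
      ∃ k : ℕ, CoPi π (y ^ k) ∧ f (y ^ k) = f y from H _ y rfl hy
  intro n
  induction n using Nat.strong_induction_on with
  | _ n ih =>
  intro y hn hy
  by_cases hc : CoPi π y
  · exact ⟨1, by rwa [pow_one], by rw [pow_one]⟩
  simp only [CoPi, not_forall, not_not] at hc
  obtain ⟨p, hp, hpd, hpπ⟩ := hc
  obtain ⟨j, hj⟩ : ∃ j : ℕ, ((f y) ^ p) ^ j = f y :=
    exists_pow_eq_self_of_coprime (hp.coprime_iff_not_dvd.2 fun hd => hy p hp hd hpπ)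
  have hlt : orderOf (y ^ (p * j)) < n := by
    have h1 : orderOf (y ^ (p * j)) ∣ orderOf (y ^ p) := by rw [pow_mul]; exact orderOf_pow_dvd j
    have h2 : orderOf (y ^ p) < n := by
      rw [orderOf_pow_of_dvd hp.ne_zero hpd, ← hn]
      exact Nat.div_lt_self (orderOf_pos y) hp.one_lt
    exact lt_of_le_of_lt (Nat.le_of_dvd (orderOf_pos _) h1) h2
  have he : f (y ^ (p * j)) = f y := by rw [map_pow, pow_mul, hj]
  obtain ⟨k, hk1, hk2⟩ := ih _ hlt _ rfl (by rw [he]; exact hy)
  exact ⟨p * j * k, by rw [pow_mul]; exact hk1, by rw [pow_mul, hk2, he]⟩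

/-- It suffices that π'-elements normalizing π-subgroups centralize them. -/
theorem hom_of_centralizes {H : Subgroup G}
    (hc : ∀ y ∈ Subgroup.normalizer (H : Set G), CoPi π y → y ∈ Subgroup.centralizer (H : Set G))
    {p : ℕ} (hp : p.Prime)
    (hd : p ∣ (Subgroup.centralizer (H : Set G)).relIndex (Subgroup.normalizer (H : Set G))) :
    p ∈ π := by
  by_contra hpi
  haveI := Fact.mk hp
  obtain ⟨P⟩ := (inferInstance : Nonempty (Sylow p (Subgroup.normalizer (H : Set G))))
  refine P.not_dvd_index (hd.trans (Subgroup.index_dvd_of_le fun x hx => ?_))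
  refine Subgroup.mem_subgroupOf.2 (hc x x.2 fun q hq hqd => ?_)
  obtain ⟨k, hk⟩ := IsPGroup.iff_orderOf.1 P.isPGroup' ⟨x, hx⟩
  rw [Subgroup.orderOf_mk] at hk
  rw [Subgroup.orderOf_coe, hk] at hqd
  rwa [(Nat.prime_dvd_prime_iff_eq hq hp).1 (hq.dvd_of_dvd_pow hqd)]

/-- The easy direction. -/
theorem auto_of_closed (hc : Closed π G) (H : Subgroup G) (_hne : H ≠ ⊥) (hH : PiGrp π H) (p : ℕ)
    (hp : p.Prime)
    (hd : p ∣ (Subgroup.centralizer (H : Set G)).relIndex (Subgroup.normalizer (H : Set G))) :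
    p ∈ π := by
  obtain ⟨K, hKn, hK, -, -⟩ := hc.exists_kernel
  refine hom_of_centralizes (fun y hy hyc => Subgroup.mem_centralizer_iff.2 fun a ha => ?_) hp hd
  have h1 : y * a * y⁻¹ * a⁻¹ = 1 := eq_one_of_coPi_of_piGrp hH
    (mul_mem ((Subgroup.mem_normalizer_iff.1 hy a).1 ha) (inv_mem ha))
    ((hK _).1 (by
      rw [show y * a * y⁻¹ * a⁻¹ = y * (a * y⁻¹ * a⁻¹) by group]
      exact mul_mem ((hK _).2 hyc) (hKn.conj_mem _ (inv_mem ((hK _).2 hyc)) a)))
  rw [mul_inv_eq_one, mul_inv_eq_iff_eq_mul] at h1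
  exact h1.symm

theorem sylow_normal_of_surjective {X Y : Type*} [Group X] [Finite X] [Group Y] [Finite Y]
    (φ : X →* Y) (hφ : Function.Surjective φ) (hX : ∀ T : Sylow 2 X, (T : Subgroup X).Normal)
    (P : Sylow 2 Y) : (P : Subgroup Y).Normal := by
  haveI : Fact (Nat.Prime 2) := ⟨Nat.prime_two⟩
  obtain ⟨T⟩ := (inferInstance : Nonempty (Sylow 2 X))
  haveI := hX T
  haveI hn : ((T : Subgroup X).map φ).Normal := Subgroup.Normal.map (hX T) φ hφ
  obtain ⟨g, hg⟩ := MulAction.exists_smul_eq Y (T.mapSurjective hφ) P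
  have e : (P : Subgroup Y) = (T : Subgroup X).map φ := by
    rw [← hg, Sylow.coe_subgroup_smul, Sylow.coe_mapSurjective]
    exact Subgroup.Normal.conj_smul_eq_self g _
  rw [e]; exact hn

namespace Hyp

variable (h : Hyp π G)
include h

/-- The quotient by a normal π'-subgroup satisfies the hypotheses. -/
theorem quotient_of_coPi (N : Subgroup G) [N.Normal] (hN : ∀ x ∈ N, CoPi π x) : Hyp π (G ⧸ N) := by
  set f := QuotientGroup.mk' N
  have hf : Function.Surjective f := QuotientGroup.mk'_surjective N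
  have hNc : ∀ p : ℕ, p.Prime → p ∣ Nat.card N → p ∉ π := fun p hp hd => by
    haveI := Fact.mk hp
    obtain ⟨x, hx⟩ := exists_prime_orderOf_dvd_card' p hd
    exact hN x x.2 p hp (by rw [Subgroup.orderOf_coe, hx])
  haveI hNs : Group.IsSolvable N := Cfsg.Agent.S0205.result (Nat.not_even_iff_odd.1 fun he =>
    hNc 2 Nat.prime_two (even_iff_two_dvd.1 he) h.two)
  have key : ∀ H : Subgroup (G ⧸ N), PiGrp π H → ∃ X : Subgroup G, PiGrp π X ∧ X.map f = H ∧
      ∀ Y : Subgroup G, Y ≤ H.comap f → Nat.card Y = Nat.card X →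
        ∃ n ∈ N, Y = X.map (MulAut.conj n).toMonoidHom := by
    intro H hH
    have hle : N ≤ H.comap f := fun x hx => by
      rw [Subgroup.mem_comap, show f x = 1 from (QuotientGroup.eq_one_iff x).2 hx]; exact one_mem _
    have hidx : N.relIndex (H.comap f) = Nat.card H := by
      have := Subgroup.relIndex_ker (H.comap f) f
      rwa [QuotientGroup.ker_mk', Subgroup.map_comap_eq_self_of_surjective hf] at this
    obtain ⟨B, hB⟩ := Subgroup.exists_right_complement'_of_coprime (N := N.subgroupOf (H.comap f)) (by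
      rw [Nat.card_congr (Subgroup.subgroupOfEquivOfLe hle).toEquiv]
      refine Nat.coprime_of_dvd fun p hp h1 h2 => hNc p hp h1 (hH p hp ?_)
      rw [← hidx]; exact h2)
    set X := B.map (H.comap f).subtype
    have hXc : Nat.card X = Nat.card H := by
      rw [Subgroup.card_map_of_injective (H.comap f).subtype_injective, ← hB.symm.index_eq_card]
      exact hidx
    have hX : PiGrp π X := fun p hp hd => hH p hp (hXc ▸ hd)
    have hsup : N ⊔ X = H.comap f := by
      conv_lhs => arg 1; rw [← Subgroup.map_subgroupOf_eq_of_le hle]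
      rw [← Subgroup.map_sup, hB.sup_eq_top, ← MonoidHom.range_eq_map, Subgroup.range_subtype]
    refine ⟨X, hX, ?_, fun Y hY hYc => ?_⟩
    · have := congrArg (Subgroup.map f) hsup
      rw [Subgroup.map_sup, Subgroup.map_comap_eq_self_of_surjective hf,
        show N.map f = ⊥ from (Subgroup.map_eq_bot_iff N).2 (by rw [QuotientGroup.ker_mk']),
        bot_sup_eq] at this
      exact this
    · exact Cfsg.Lib.Coprime.exists_conj_of_coprime N X Y
        (fun _ _ => by rw [Subgroup.normalizer_eq_top_iff.2 inferInstance]; exact Subgroup.mem_top _)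
        (Nat.coprime_of_dvd fun p hp h1 h2 => hNc p hp h2 (hX p hp h1))
        (Or.inr hNs) (hsup ▸ hY) hYc
  refine ⟨h.two, fun H hH P => ?_, fun H _ hH p hp hd => ?_⟩
  · obtain ⟨X, hX, hXH, -⟩ := key H hH
    subst hXH
    exact sylow_normal_of_surjective (f.subgroupMap X) (f.subgroupMap_surjective X) (h.cl X hX) P
  · obtain ⟨X, hX, hXH, hconj⟩ := key H hH
    refine hom_of_centralizes (fun y hy hyc => ?_) hp hd
    obtain ⟨w, rfl⟩ := hf y
    have hY : X.map (MulAut.conj w).toMonoidHom ≤ H.comap f := by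
      rintro _ ⟨x, hx, rfl⟩
      have hxH : f x ∈ H := hXH ▸ ⟨x, hx, rfl⟩
      show f (w * x * w⁻¹) ∈ H
      rw [map_mul, map_mul, map_inv]
      exact (Subgroup.mem_normalizer_iff.1 hy _).1 hxH
    obtain ⟨n, hn, hwn⟩ := hconj _ hY (Subgroup.card_map_of_injective (MulAut.conj w).injective)
    have hw1 : n⁻¹ * w ∈ Subgroup.normalizer (X : Set G) := by
      rw [Subgroup.mem_normalizer_iff]
      intro x
      have e1 : x ∈ X ↔ w * x * w⁻¹ ∈ X.map (MulAut.conj w).toMonoidHom :=
        ⟨fun hx => ⟨x, hx, rfl⟩, fun ⟨a, ha, e⟩ => by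
          rwa [← (MulAut.conj w).injective (show MulAut.conj w a = MulAut.conj w x from e)]⟩
      rw [e1, hwn]
      constructor
      · rintro ⟨a, ha, e⟩
        have e' : n * a * n⁻¹ = w * x * w⁻¹ := e
        rw [show n⁻¹ * w * x * (n⁻¹ * w)⁻¹ = n⁻¹ * (w * x * w⁻¹) * n by group, ← e']
        simpa [mul_assoc] using ha
      · intro hx
        exact ⟨_, hx, show n * (n⁻¹ * w * x * (n⁻¹ * w)⁻¹) * n⁻¹ = w * x * w⁻¹ by group⟩
    have hfw : f (n⁻¹ * w) = f w := by
      rw [map_mul, map_inv, show f n = 1 from (QuotientGroup.eq_one_iff n).2 hn, inv_one, one_mul]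
    obtain ⟨k, hk, hkf⟩ := exists_coPi_lift f (n⁻¹ * w) (hfw ▸ hyc)
    have hc := h.coPi_centralizes hX hk (pow_mem hw1 k)
    rw [hfw] at hkf
    rw [← hkf, ← hXH]
    exact Subgroup.map_centralizer_le_centralizer_image _ f ⟨_, hc, rfl⟩

/-- The quotient by a central π-subgroup satisfies the hypotheses. -/
theorem quotient_of_central (N : Subgroup G) [N.Normal] (hN : PiGrp π N) : Hyp π (G ⧸ N) := by
  set f := QuotientGroup.mk' N
  have hf : Function.Surjective f := QuotientGroup.mk'_surjective N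
  have key : ∀ H : Subgroup (G ⧸ N), PiGrp π H → PiGrp π (H.comap f) := by
    intro H hH p hp hd
    have hle : N ≤ H.comap f := fun x hx => by
      rw [Subgroup.mem_comap, show f x = 1 from (QuotientGroup.eq_one_iff x).2 hx]; exact one_mem _
    have hidx := Subgroup.relIndex_ker (H.comap f) f
    rw [QuotientGroup.ker_mk', Subgroup.map_comap_eq_self_of_surjective hf] at hidx
    rw [← Subgroup.card_mul_index (N.subgroupOf (H.comap f)),
      Nat.card_congr (Subgroup.subgroupOfEquivOfLe hle).toEquiv] at hd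
    rcases hp.dvd_mul.1 hd with h1 | h1
    · exact hN p hp h1
    · exact hH p hp (hidx ▸ h1)
  refine ⟨h.two, fun H hH P => ?_, fun H _ hH p hp hd => ?_⟩
  · exact sylow_normal_of_surjective (f.subgroupComap H)
      (f.subgroupComap_surjective_of_surjective H hf) (h.cl _ (key H hH)) P
  · refine hom_of_centralizes (fun y hy hyc => ?_) hp hd
    obtain ⟨w, rfl⟩ := hf y
    obtain ⟨k, hk, hkf⟩ := exists_coPi_lift f w hyc
    have hn : w ^ k ∈ Subgroup.normalizer ((H.comap f : Subgroup G) : Set G) := by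
      rw [← hkf] at hy
      rw [Subgroup.mem_normalizer_iff]
      intro x
      simp only [Subgroup.mem_comap, map_mul, map_inv]
      exact Subgroup.mem_normalizer_iff.1 hy _
    have hc := Subgroup.mem_centralizer_iff.1 (h.coPi_centralizes (key H hH) hk hn)
    rw [← hkf, Subgroup.mem_centralizer_iff]
    intro a ha
    obtain ⟨x, rfl⟩ := hf a
    rw [← map_mul, ← map_mul, hc x ha]

end Hyp

/-- The hard direction, given that there is no minimal counterexample. -/
theorem closed_of_hyp.{v} {π : Set ℕ} (hmain : ∀ (X : Type v) [Group X] [Finite X], Min π X → False)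
    {G : Type v} [Group G] [Finite G] (h : Hyp π G) : Closed π G := by
  suffices H : ∀ m : ℕ, ∀ (X : Type v) [Group X] [Finite X], Nat.card X = m → Hyp π X → Closed π X from
    H _ G rfl h
  intro m
  induction m using Nat.strong_induction_on with
  | _ m ih =>
  intro G _ _ hm h
  have hsub : ∀ U : Subgroup G, U ≠ ⊤ → Closed π ↥U := fun U hU =>
    ih _ (hm ▸ lt_of_le_of_ne (Nat.le_of_dvd Nat.card_pos U.card_subgroup_dvd_card)
      fun e => hU (U.card_eq_iff_eq_top.1 e)) ↥U rfl (h.subgroup U)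
  have hquot : ∀ (N : Subgroup G) [N.Normal], N ≠ ⊥ → Hyp π (G ⧸ N) → Closed π (G ⧸ N) := by
    intro N _ hN hq
    refine ih _ (hm ▸ ?_) _ rfl hq
    rw [← N.index_eq_card, ← N.index_mul_card]
    exact lt_mul_of_one_lt_right (Nat.pos_of_ne_zero Subgroup.index_ne_zero_of_finite)
      (N.one_lt_card_iff_ne_bot.2 hN)
  by_cases hex : ∃ N : Subgroup G, N.Normal ∧ N ≠ ⊥ ∧ N ≠ ⊤
  · obtain ⟨N, hNn, hNb, hNt⟩ := hex
    obtain ⟨K, hK⟩ := hsub N hNt
    set K' : Subgroup G := K.map N.subtype
    have hK' : ∀ x, x ∈ K' ↔ x ∈ N ∧ CoPi π x := by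
      intro x
      constructor
      · rintro ⟨y, hy, rfl⟩
        exact ⟨y.2, (coPi_map_iff N.subtype N.subtype_injective y).2 ((hK y).1 hy)⟩
      · rintro ⟨hx, hc⟩
        exact ⟨⟨x, hx⟩, (hK _).2 ((coPi_map_iff N.subtype N.subtype_injective ⟨x, hx⟩).1 hc), rfl⟩
    haveI hK'n : K'.Normal := ⟨fun x hx g =>
      (hK' _).2 ⟨hNn.conj_mem x ((hK' x).1 hx).1 g, (coPi_conj g x).2 ((hK' x).1 hx).2⟩⟩
    by_cases hb : K' = ⊥
    · have hNpi : PiGrp π N := by
        intro p hp hd
        by_contra hpi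
        haveI := Fact.mk hp
        obtain ⟨x, hx⟩ := exists_prime_orderOf_dvd_card' p hd
        have hx1 : (x : G) ∈ K' := (hK' _).2 ⟨x.2, fun q hq hqd => by
          rw [Subgroup.orderOf_coe, hx] at hqd
          rwa [(Nat.prime_dvd_prime_iff_eq hq hp).1 hqd]⟩
        rw [hb, Subgroup.mem_bot, OneMemClass.coe_eq_one] at hx1
        rw [hx1, orderOf_one] at hx
        exact hp.ne_one hx.symm
      have hcent : ∀ x : G, CoPi π x → x ∈ Subgroup.centralizer (N : Set G) := fun x hx =>
        h.coPi_centralizes hNpi hx (by rw [Subgroup.normalizer_eq_top_iff.2 hNn]; exact Subgroup.mem_top _)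
      by_cases hC : Subgroup.centralizer (N : Set G) = ⊤
      · obtain ⟨Kq, hKq⟩ := hquot N hNb (h.quotient_of_central N hNpi)
        set f := QuotientGroup.mk' N
        set K1 := Kq.comap f
        have hle : N ≤ K1 := fun x hx => by
          rw [Subgroup.mem_comap, show f x = 1 from (QuotientGroup.eq_one_iff x).2 hx]; exact one_mem _
        have hidx : N.relIndex K1 = Nat.card Kq := by
          have := Subgroup.relIndex_ker K1 f
          rwa [QuotientGroup.ker_mk',
            Subgroup.map_comap_eq_self_of_surjective (QuotientGroup.mk'_surjective N)] at this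
        have hKqc : ∀ p : ℕ, p.Prime → p ∣ Nat.card Kq → p ∉ π := fun p hp hd => by
          haveI := Fact.mk hp
          obtain ⟨x, hx⟩ := exists_prime_orderOf_dvd_card' p hd
          exact (hKq _).1 x.2 p hp (by rw [Subgroup.orderOf_coe, hx])
        obtain ⟨B, hB⟩ := Subgroup.exists_right_complement'_of_coprime (N := N.subgroupOf K1) (by
          rw [Nat.card_congr (Subgroup.subgroupOfEquivOfLe hle).toEquiv]
          refine Nat.coprime_of_dvd fun p hp h1 h2 => hKqc p hp ?_ (hNpi p hp h1)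
          rw [← hidx]; exact h2)
        have hBc : ∀ b ∈ B, CoPi π ((b : K1) : G) := fun b hb p hp hd => by
          rw [Subgroup.orderOf_coe] at hd
          refine hKqc p hp ?_
          rw [← hidx, Subgroup.relIndex, hB.symm.index_eq_card]
          exact hd.trans (Subgroup.orderOf_dvd_natCard B hb)
        refine ⟨B.map K1.subtype, fun x => ⟨?_, fun hx => ?_⟩⟩
        · rintro ⟨b, hb, rfl⟩
          exact hBc b hb
        · have hx1 : x ∈ K1 := (hKq _).2 (coPi_of_dvd hx (orderOf_map_dvd f x))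
          obtain ⟨⟨n, b⟩, hnb, -⟩ := Subgroup.isComplement'_def.1 hB |>.existsUnique ⟨x, hx1⟩
          have e : ((n : K1) : G) * ((b : K1) : G) = x := congrArg Subtype.val hnb
          have hn1 : ((n : K1) : G) = 1 := by
            refine eq_one_of_coPi_of_piGrp hNpi n.2 ?_
            have hcomm : Commute ((n : K1) : G) ((b : K1) : G) :=
              (Subgroup.mem_centralizer_iff.1 (hC ▸ Subgroup.mem_top ((b : K1) : G)) _ n.2)
            have e2 : ((n : K1) : G) = x * ((b : K1) : G)⁻¹ := by rw [← e, mul_inv_cancel_right]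
            rw [e2]
            refine coPi_mul ?_ hx ((coPi_inv _).2 (hBc _ b.2))
            rw [← e]
            exact (hcomm.mul_left (Commute.refl _)).inv_right
          refine ⟨(b : K1), b.2, ?_⟩
          rw [← e, hn1, one_mul]
          rfl
      · obtain ⟨Kc, hKc⟩ := hsub _ hC
        refine ⟨Kc.map (Subgroup.centralizer (N : Set G)).subtype, fun x => ⟨?_, fun hx => ?_⟩⟩
        · rintro ⟨y, hy, rfl⟩
          exact (coPi_map_iff _ (Subgroup.subtype_injective _) y).2 ((hKc y).1 hy)
        · exact ⟨⟨x, hcent x hx⟩, (hKc _).2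
            ((coPi_map_iff _ (Subgroup.subtype_injective _) ⟨x, hcent x hx⟩).1 hx), rfl⟩
    · obtain ⟨Kq, hKq⟩ := hquot K' hb (h.quotient_of_coPi K' fun x hx => ((hK' x).1 hx).2)
      refine ⟨Kq.comap (QuotientGroup.mk' K'), fun x => ⟨fun hx p hp hd hpi => ?_,
        fun hx => (hKq _).2 (coPi_of_dvd hx (orderOf_map_dvd _ x))⟩⟩
      have hpo : ¬ p ∣ orderOf (QuotientGroup.mk' K' x) := fun hd' => (hKq _).1 hx p hp hd' hpi
      set o := orderOf (QuotientGroup.mk' K' x)
      have hxo : x ^ o ∈ K' := by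
        rw [← QuotientGroup.eq_one_iff]
        show QuotientGroup.mk' K' (x ^ o) = 1
        rw [map_pow, pow_orderOf_eq_one]
      have hd2 : orderOf x ∣ o * orderOf (x ^ o) := orderOf_dvd_of_pow_eq_one (by
        rw [pow_mul, pow_orderOf_eq_one])
      exact ((hK' _).1 hxo).2 p hp ((hp.dvd_mul.1 (hd.trans hd2)).resolve_left hpo) hpi
  · by_contra hnc
    haveI hnt : Nontrivial G := by
      rw [← not_subsingleton_iff_nontrivial]
      intro hs
      exact hnc ⟨⊤, fun x => ⟨fun _ => Subsingleton.elim (1 : G) x ▸ coPi_one,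
        fun _ => Subgroup.mem_top _⟩⟩
    haveI hsimple : IsSimpleGroup G := ⟨fun N hN => by
      by_contra hc
      rw [not_or] at hc
      exact hex ⟨N, hN, hc.1, hc.2⟩⟩
    refine hmain G { h with simple := hsimple, noncomm := ?_, closed := hsub, notClosed := hnc }
    intro hcomm
    exact hnc ⟨{ carrier := {x | CoPi π x}
                 one_mem' := coPi_one
                 mul_mem' := fun {a b} ha hb => coPi_mul (hcomm.is_comm.comm a b) ha hb
                 inv_mem' := fun {a} ha => (coPi_inv a).2 ha }, fun x => Iff.rfl⟩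

end Cfsg.Lib.PiHom
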