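import Cfsg.Agent.Lib.PiHom.Strong
import Cfsg.Agent.Lib.Coprime.Generation
import Cfsg.Agent.S0217

/-!
# No elementary abelian subgroup of order eight above a central four-group

In a minimal counterexample the cores of centralizers of involutions form a balanced functor; either
they are trivial and the normalizer of a Sylow 2-subgroup is strongly embedded, or their join has a
strongly embedded normalizer.
-/

set_option autoImplicit false
set_option linter.style.haveILetI false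
set_option linter.unusedSectionVars false

namespace Cfsg.Lib.PiHom

universe u

variable {π : Set ℕ} {G : Type u} [Group G] [Finite G]

theorem isPGroup_of_sq {E : Subgroup G} (hE : ∀ e ∈ E, e * e = 1) : IsPGroup 2 E := fun e =>
  ⟨1, Subtype.ext (by rw [pow_one, pow_two]; exact hE e e.2)⟩

theorem commute_of_sq {E : Subgroup G} (hE : ∀ e ∈ E, e * e = 1) {a b : G} (ha : a ∈ E) (hb : b ∈ E) :
    Commute a b := by
  have h1 := fun e he => eq_inv_of_mul_eq_one_left (hE e he)
  calc a * b = (a * b)⁻¹ := h1 _ (mul_mem ha hb)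
    _ = b⁻¹ * a⁻¹ := mul_inv_rev a b
    _ = b * a := by rw [← h1 a ha, ← h1 b hb]

namespace Min

variable (h : Min π G)
include h

theorem centralizer_ne_top {t : G} (ht : t ≠ 1) : Subgroup.centralizer ({t} : Set G) ≠ ⊤ := by
  intro e
  haveI := h.simple
  have hc : t ∈ Subgroup.center G := Subgroup.mem_center_iff.2 fun g =>
    Subgroup.mem_centralizer_singleton_iff.1 (e ▸ Subgroup.mem_top g)
  rcases IsSimpleGroup.eq_bot_or_eq_top_of_normal (Subgroup.center G) inferInstance with h' | h'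
  · exact ht (Subgroup.mem_bot.1 (h' ▸ hc))
  · exact h.noncomm ⟨⟨fun a b => Subgroup.mem_center_iff.1 (h' ▸ Subgroup.mem_top b) a⟩⟩

/-- In a Sylow 2-subgroup, the centralizer of each element is Sylow in the whole centralizer. -/
theorem exists_sylow_centralizer (S : Sylow 2 G) {t : G} (ht : t ∈ (S : Subgroup G)) :
    ∃ Q : Sylow 2 ↥(Subgroup.centralizer ({t} : Set G)),
      (Q : Subgroup _).map (Subgroup.centralizer ({t} : Set G)).subtype =
        (S : Subgroup G) ⊓ Subgroup.centralizer ({t} : Set G) := by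
  haveI : Fact (Nat.Prime 2) := ⟨Nat.prime_two⟩
  set C := Subgroup.centralizer ({t} : Set G)
  obtain ⟨Q, hQ⟩ := ((S.isPGroup'.to_le inf_le_left : IsPGroup 2 ↥((S : Subgroup G) ⊓ C)).comap_of_injective
    C.subtype C.subtype_injective).exists_le_sylow
  set P := (Q : Subgroup C).map C.subtype with hP
  have hle0 : (S : Subgroup G) ⊓ C ≤ P := fun x hx =>
    ⟨⟨x, hx.2⟩, hQ (Subgroup.mem_comap.2 hx), rfl⟩
  refine ⟨Q, (Subgroup.eq_of_le_of_card_ge hle0 ?_).symm⟩
  obtain ⟨R, hR⟩ := (Q.isPGroup'.map C.subtype : IsPGroup 2 P).exists_le_sylow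
  obtain ⟨c, hc⟩ := MulAction.exists_smul_eq G R S
  have hPS : ∀ x ∈ P, c * x * c⁻¹ ∈ (S : Subgroup G) := by
    intro x hx
    rw [← hc, Sylow.coe_subgroup_smul]
    exact ⟨x, hR hx, by simp [MulAut.smul_def]⟩
  have htP : t ∈ P :=
    ⟨⟨t, Subgroup.mem_centralizer_singleton_iff.2 rfl⟩,
      hQ (Subgroup.mem_comap.2 ⟨ht, Subgroup.mem_centralizer_singleton_iff.2 rfl⟩), rfl⟩
  obtain ⟨n, hn, hnt⟩ := h.fusion S (Subgroup.zpowers t) (Subgroup.zpowers_le.2 ht) c (by
    intro x hx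
    exact hPS x (Subgroup.zpowers_le.2 htP hx))
  have hle : P.map (MulAut.conj c).toMonoidHom ≤
      ((S : Subgroup G) ⊓ C).map (MulAut.conj n).toMonoidHom := by
    rintro _ ⟨x, hx, rfl⟩
    have h1 := hPS x hx
    have hxt : x * t = t * x := by
      obtain ⟨y, -, rfl⟩ := hx
      exact Subgroup.mem_centralizer_singleton_iff.1 y.2
    refine ⟨n⁻¹ * (c * x * c⁻¹) * n, ⟨?_, Subgroup.mem_centralizer_singleton_iff.2 ?_⟩, ?_⟩
    · have := (Subgroup.mem_normalizer_iff.1 (inv_mem hn) _).1 h1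
      rwa [inv_inv] at this
    · have e := hnt t (Subgroup.mem_zpowers t)
      calc n⁻¹ * (c * x * c⁻¹) * n * t = n⁻¹ * (c * x * c⁻¹) * (n * t * n⁻¹) * n := by group
        _ = n⁻¹ * (c * (x * t) * c⁻¹) * n := by rw [e]; group
        _ = n⁻¹ * (c * (t * x) * c⁻¹) * n := by rw [hxt]
        _ = n⁻¹ * (c * t * c⁻¹) * (c * x * c⁻¹) * n := by group
        _ = t * (n⁻¹ * (c * x * c⁻¹) * n) := by rw [← e]; group
    · show n * (n⁻¹ * (c * x * c⁻¹) * n) * n⁻¹ = c * x * c⁻¹
      group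
  have := Subgroup.card_le_of_le hle
  rw [Subgroup.card_map_of_injective (K := (S : Subgroup G) ⊓ C) (f := (MulAut.conj n).toMonoidHom)
    (MulAut.conj n).injective, Subgroup.card_map_of_injective (K := P)
    (f := (MulAut.conj c).toMonoidHom) (MulAut.conj c).injective] at this
  exact this

/-- A proper subgroup above the normalizer of a Sylow 2-subgroup containing the cores of the
centralizers of its involutions would be strongly embedded. -/
theorem false_of_cores_le (S : Sylow 2 G) {z : G} (hzS : z ∈ (S : Subgroup G))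
    (hz : ∀ x ∈ (S : Subgroup G), Commute z x) (hz2 : orderOf z = 2)
    (M : Subgroup G) (hM : M ≠ ⊤) (hNM : Subgroup.normalizer ((S : Subgroup G) : Set G) ≤ M)
    (hcore : ∀ t ∈ (S : Subgroup G), orderOf t = 2 → core π (Subgroup.centralizer ({t} : Set G)) ≤ M) :
    False := by
  haveI : Fact (Nat.Prime 2) := ⟨Nat.prime_two⟩
  have hSM : (S : Subgroup G) ≤ M := Subgroup.le_normalizer.trans hNM
  -- the centralizers of the involutions of `S` lie in `M`
  have hfac : ∀ t ∈ (S : Subgroup G), orderOf t = 2 → ∀ x ∈ Subgroup.centralizer ({t} : Set G),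
      ∃ k ∈ M, ∃ n : G, n ∈ Subgroup.normalizer
        (((S : Subgroup G) ⊓ Subgroup.centralizer ({t} : Set G) : Subgroup G) : Set G) ∧ x = k * n := by
    intro t ht ht2 x hx
    obtain ⟨Q, hQ⟩ := h.exists_sylow_centralizer S ht
    obtain ⟨k, hk, n, -, hn, e⟩ :=
      h.exists_core_mul (h.centralizer_ne_top (Cfsg.Lib.Invol.ne_one ht2)) Q hx
    rw [hQ] at hn
    exact ⟨k, hcore t ht ht2 hk, n, hn, e⟩
  have hzC : (S : Subgroup G) ⊓ Subgroup.centralizer ({z} : Set G) = (S : Subgroup G) :=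
    inf_eq_left.2 fun y hy => Subgroup.mem_centralizer_singleton_iff.2 (hz y hy).eq.symm
  have hzM : Subgroup.centralizer ({z} : Set G) ≤ M := by
    intro x hx
    obtain ⟨k, hk, n, hn, rfl⟩ := hfac z hzS hz2 x hx
    rw [hzC] at hn
    exact mul_mem hk (hNM hn)
  have hCM : ∀ t ∈ (S : Subgroup G), orderOf t = 2 → Subgroup.centralizer ({t} : Set G) ≤ M := by
    intro t ht ht2 x hx
    obtain ⟨k, hk, n, hn, rfl⟩ := hfac t ht ht2 x hx
    refine mul_mem hk ?_
    set P := (S : Subgroup G) ⊓ Subgroup.centralizer ({t} : Set G)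
    obtain ⟨m, hm, hme⟩ := h.fusion S P inf_le_left n fun y hy =>
      inf_le_left (b := Subgroup.centralizer ({t} : Set G)) ((Subgroup.mem_normalizer_iff.1 hn y).1 hy)
    have hzP : z ∈ P := ⟨hzS, Subgroup.mem_centralizer_singleton_iff.2 (hz t ht).eq⟩
    have h1 : m⁻¹ * n ∈ Subgroup.centralizer ({z} : Set G) := by
      rw [Subgroup.mem_centralizer_singleton_iff]
      calc m⁻¹ * n * z = m⁻¹ * (n * z * n⁻¹) * n := by group
        _ = z * (m⁻¹ * n) := by rw [← hme z hzP]; group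
    have h2 := mul_mem (hNM hm) (hzM h1)
    rwa [mul_inv_cancel_left] at h2
  have hMeven : Even (Nat.card M) := by
    rw [even_iff_two_dvd]
    exact hz2 ▸ Subgroup.orderOf_dvd_natCard M (hSM hzS)
  refine h.not_stronglyEmbedded M ((Cfsg.Lib.Invol.stronglyEmbedded_iff hM hMeven).2 ?_)
  -- involutions of `M` are conjugate into `S` inside `M`
  have hmove : ∀ t ∈ M, orderOf t = 2 → ∃ m ∈ M, m * t * m⁻¹ ∈ (S : Subgroup G) := by
    intro t ht ht2
    obtain ⟨Q, hQ⟩ := (IsPGroup.of_card (p := 2) (n := 1)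
      (by rw [Nat.card_zpowers, Subgroup.orderOf_mk, ht2, pow_one]) :
        IsPGroup 2 (Subgroup.zpowers (⟨t, ht⟩ : M))).exists_le_sylow
    obtain ⟨m, hm⟩ := MulAction.exists_smul_eq M Q (S.subtype hSM)
    refine ⟨m, m.2, ?_⟩
    have h1 : m * (⟨t, ht⟩ : M) * m⁻¹ ∈ ((S.subtype hSM : Sylow 2 M) : Subgroup M) := by
      rw [← hm, Sylow.coe_subgroup_smul]
      exact ⟨⟨t, ht⟩, hQ (Subgroup.mem_zpowers _), rfl⟩
    exact h1
  intro t ht ht2 g hg
  obtain ⟨a, ha, hat⟩ := hmove t ht ht2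
  obtain ⟨b, hb, hbt⟩ := hmove _ hg (by rw [Cfsg.Lib.Invol.orderOf_conj_eq, ht2])
  obtain ⟨n, hn, hne⟩ := h.fusion S (Subgroup.zpowers (a * t * a⁻¹)) (Subgroup.zpowers_le.2 hat)
    (b * g * a⁻¹) fun x hx => by
      obtain ⟨i, rfl⟩ := hx
      show b * g * a⁻¹ * (a * t * a⁻¹) ^ i * (b * g * a⁻¹)⁻¹ ∈ (S : Subgroup G)
      rw [← conj_zpow]
      refine zpow_mem ?_ i
      rw [show b * g * a⁻¹ * (a * t * a⁻¹) * (b * g * a⁻¹)⁻¹ = b * (g * t * g⁻¹) * b⁻¹ by group]
      exact hbt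
  have e := hne _ (Subgroup.mem_zpowers _)
  have h1 : n⁻¹ * (b * g * a⁻¹) ∈ Subgroup.centralizer ({a * t * a⁻¹} : Set G) := by
    rw [Subgroup.mem_centralizer_singleton_iff]
    calc n⁻¹ * (b * g * a⁻¹) * (a * t * a⁻¹)
        = n⁻¹ * ((b * g * a⁻¹) * (a * t * a⁻¹) * (b * g * a⁻¹)⁻¹) * (b * g * a⁻¹) := by group
      _ = a * t * a⁻¹ * (n⁻¹ * (b * g * a⁻¹)) := by rw [← e]; group
  have h2 := mul_mem (mul_mem (inv_mem hb) (mul_mem (hNM hn)
    (hCM _ hat (by rw [Cfsg.Lib.Invol.orderOf_conj_eq, ht2]) h1))) ha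
  rwa [show b⁻¹ * (n * (n⁻¹ * (b * g * a⁻¹))) * a = g by group] at h2

/-- No elementary abelian subgroup of order at least eight of a Sylow 2-subgroup contains a central
four-group. -/
theorem not_eight (S : Sylow 2 G) (A : Subgroup G) (hAS : A ≤ (S : Subgroup G))
    (hA : ∀ a ∈ A, a * a = 1) (hA8 : 8 ≤ Nat.card A) (E : Subgroup G) (hEA : E ≤ A)
    (hE4 : 4 ≤ Nat.card E) (hEc : ∀ e ∈ E, ∀ x ∈ (S : Subgroup G), Commute e x) : False := by
  haveI : Fact (Nat.Prime 2) := ⟨Nat.prime_two⟩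
  have hE : ∀ e ∈ E, e * e = 1 := fun e he => hA e (hEA he)
  haveI : Nontrivial E := Finite.one_lt_card_iff_nontrivial.1 (by omega)
  obtain ⟨⟨z, hzE⟩, hz1⟩ := exists_ne (1 : E)
  have hz2 : orderOf z = 2 :=
    Cfsg.Lib.Invol.orderOf_eq_two_of (fun e => hz1 (Subtype.ext e)) (hE z hzE)
  have hzS := hAS (hEA hzE)
  set θ : G → Subgroup G := fun a => core π (Subgroup.centralizer ({a} : Set G))
  have hord : ∀ a ∈ A, a ≠ 1 → orderOf a = 2 := fun a ha h1 =>
    Cfsg.Lib.Invol.orderOf_eq_two_of h1 (hA a ha)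
  have hθmem : ∀ a : G, a ≠ 1 → ∀ x, x ∈ θ a ↔ x ∈ Subgroup.centralizer ({a} : Set G) ∧ CoPi π x :=
    fun a ha x => h.mem_core (h.centralizer_ne_top ha)
  have hW := Cfsg.Agent.S0217.result (p := 2) A
    (fun a ha b hb => (commute_of_sq hA ha hb).eq)
    (fun a ha => by rw [pow_two]; exact hA a ha) (by norm_num; exact hA8) θ
    (fun a _ _ => core_le _)
    (fun a _ h1 => fun hd => Nat.not_even_iff_odd.2 (h.core_odd (h.centralizer_ne_top h1))
      (even_iff_two_dvd.2 hd))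
    (fun a ha h1 b hb x hx => (Subgroup.mem_normalizer_iff.1
      (Cfsg.Lib.PiHom.le_normalizer_core _ (Subgroup.mem_centralizer_singleton_iff.2 (commute_of_sq hA hb ha).eq)) x).1 hx)
    (fun a _ h1 => Cfsg.Agent.S0205.result (h.core_odd (h.centralizer_ne_top h1)))
    (fun a _ ha b _ hb x hx => (hθmem b hb x).2 ⟨hx.2, ((hθmem a ha x).1 hx.1).2⟩)
  set W := ⨆ a : {a : G // a ∈ A ∧ a ≠ 1}, θ a
  have hθW : ∀ a ∈ A, a ≠ 1 → θ a ≤ W := fun a ha h1 =>
    le_iSup (fun a : {a : G // a ∈ A ∧ a ≠ 1} => θ a) ⟨a, ha, h1⟩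
  have hall : ∀ t ∈ (S : Subgroup G), orderOf t = 2 → θ t ≤ W := by
    intro t ht ht2
    haveI : IsMulCommutative E := ⟨⟨fun a b => Subtype.ext (commute_of_sq hE a.2 b.2).eq⟩⟩
    have hnc : ¬ IsCyclic E := by
      intro hc
      obtain ⟨g, hg⟩ := hc.exists_generator
      have h1 : orderOf g = Nat.card E := orderOf_eq_card_of_forall_mem_zpowers hg
      have h2 : orderOf g ≤ 2 := orderOf_le_of_pow_eq_one (by norm_num) (Subtype.ext (by
        rw [Subgroup.coe_pow, pow_two, Subgroup.coe_one]; exact hE g g.2))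
      omega
    refine (Cfsg.Lib.Coprime.le_iSup_centralizer_of_not_isCyclic hnc ?_ ?_).trans (iSup_le fun a => ?_)
    · exact fun e he => Cfsg.Lib.PiHom.le_normalizer_core _
        (Subgroup.mem_centralizer_singleton_iff.2 (hEc e he t ht).eq)
    · obtain ⟨j, hj⟩ := IsPGroup.iff_card.1 (isPGroup_of_sq hE)
      rw [hj]
      exact Nat.Coprime.pow_left j
        (Nat.coprime_two_left.2 (h.core_odd (h.centralizer_ne_top (Cfsg.Lib.Invol.ne_one ht2))))
    · intro x hx
      exact hθW a (hEA a.2.1) a.2.2 ((hθmem _ a.2.2 x).2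
        ⟨hx.2, ((hθmem _ (Cfsg.Lib.Invol.ne_one ht2) x).1 hx.1).2⟩)
  by_cases hb : W = ⊥
  · refine h.false_of_cores_le S hzS (hEc z hzE) hz2 _ ?_ le_rfl fun t ht ht2 => ?_
    · exact h.normalizer_ne_top (h.sylow_ne_bot S) (h.two_ne_top S.isPGroup')
    · exact (hall t ht ht2).trans (hb ▸ bot_le)
  · refine h.false_of_cores_le S hzS (hEc z hzE) hz2 (Subgroup.normalizer (W : Set G)) ?_ ?_
      fun t ht ht2 => (hall t ht ht2).trans Subgroup.le_normalizer
    · refine h.normalizer_ne_top hb fun e => ?_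
      have h1 := hW.1
      rw [e, Subgroup.card_top] at h1
      exact h1 (even_iff_two_dvd.1 h.even_card)
    · intro n hn
      have key : ∀ n ∈ Subgroup.normalizer ((S : Subgroup G) : Set G),
          W.map (MulAut.conj n).toMonoidHom ≤ W := by
        intro n hn
        rw [Subgroup.map_iSup]
        refine iSup_le fun a => ?_
        rintro _ ⟨x, hx, rfl⟩
        have hx' := (hθmem _ a.2.2 x).1 hx
        have hne : n * (a : G) * n⁻¹ ≠ 1 := by
          intro e; exact a.2.2 (by simpa using (conj_eq_one_iff.1 e))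
        refine hall (n * (a : G) * n⁻¹) ((Subgroup.mem_normalizer_iff.1 hn _).1 (hAS a.2.1))
          (by rw [Cfsg.Lib.Invol.orderOf_conj_eq]; exact hord a a.2.1 a.2.2)
          ((hθmem _ hne _).2 ⟨Subgroup.mem_centralizer_singleton_iff.2 ?_, (coPi_conj n x).2 hx'.2⟩)
        have hxa : Commute x a := Subgroup.mem_centralizer_singleton_iff.1 hx'.1
        exact (hxa.map (MulAut.conj n).toMonoidHom).eq
      rw [Subgroup.mem_normalizer_iff]
      refine fun x => ⟨fun hx => key n hn ⟨x, hx, rfl⟩, fun hx => ?_⟩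
      have := key n⁻¹ (inv_mem hn) ⟨_, hx, rfl⟩
      simpa [mul_assoc] using this

end Min

end Cfsg.Lib.PiHom
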