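import Cfsg.Agent.Lib.PiHom.Signalizer
import Cfsg.Agent.S0215

/-!
# The involutions of a Sylow 2-subgroup

In a minimal counterexample they form, with the identity, a central four-group on whose involutions
the normalizer of the Sylow 2-subgroup is transitive.
-/

set_option autoImplicit false
set_option linter.style.haveILetI false
set_option linter.unusedSectionVars false

namespace Cfsg.Lib.PiHom

universe u

variable {π : Set ℕ} {G : Type u} [Group G] [Finite G]

namespace Min

variable (h : Min π G)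
include h

/-- The normalizer of a Sylow 2-subgroup fixes none of its involutions. -/
theorem not_fixed (S : Sylow 2 G) {z : G} (hzS : z ∈ (S : Subgroup G)) (hz1 : z ≠ 1) (hz : z * z = 1)
    (hfix : ∀ n ∈ Subgroup.normalizer ((S : Subgroup G) : Set G), n * z * n⁻¹ = z) : False := by
  haveI := h.simple
  obtain ⟨N, hN, hodd, hcomm⟩ := Cfsg.Agent.S0215.result S z
    (Cfsg.Lib.Invol.orderOf_eq_two_of hz1 hz) hzS (fun g hg => by
      obtain ⟨n, hn, hne⟩ := h.fusion S (Subgroup.zpowers z) (Subgroup.zpowers_le.2 hzS) g (by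
        rintro x ⟨i, rfl⟩
        show g * z ^ i * g⁻¹ ∈ (S : Subgroup G)
        rw [← conj_zpow]
        exact zpow_mem (show g * z * g⁻¹ ∈ (S : Subgroup G) from hg) i)
      rw [← hne z (Subgroup.mem_zpowers z), hfix n hn])
  rcases IsSimpleGroup.eq_bot_or_eq_top_of_normal N hN with hb | ht
  · refine h.centralizer_ne_top hz1 (eq_top_iff.2 fun g _ => ?_)
    have := hcomm g
    rw [hb, Subgroup.mem_bot, mul_inv_eq_one, mul_inv_eq_iff_eq_mul] at this
    exact Subgroup.mem_centralizer_singleton_iff.2 this.symm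
  · rw [ht, Subgroup.card_top] at hodd
    exact Nat.not_even_iff_odd.2 hodd h.even_card

theorem three (S : Sylow 2 G) : ∃ E : Subgroup G, Three π S E := by
  haveI : Fact (Nat.Prime 2) := ⟨Nat.prime_two⟩
  let E : Subgroup G :=
    { carrier := {x | x ∈ (S : Subgroup G) ∧ x * x = 1 ∧ ∀ y ∈ (S : Subgroup G), Commute x y}
      one_mem' := ⟨one_mem _, one_mul 1, fun y _ => Commute.one_left y⟩
      mul_mem' := fun {a b} ha hb => ⟨mul_mem ha.1 hb.1,
        by rw [(ha.2.2 b hb.1).symm.mul_mul_mul_comm, ha.2.1, hb.2.1, one_mul],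
        fun y hy => (ha.2.2 y hy).mul_left (hb.2.2 y hy)⟩
      inv_mem' := fun {a} ha => ⟨inv_mem ha.1, by rw [← mul_inv_rev, ha.2.1, inv_one],
        fun y hy => (ha.2.2 y hy).inv_left⟩ }
  have hEm : ∀ x, x ∈ E ↔ x ∈ (S : Subgroup G) ∧ x * x = 1 ∧ ∀ y ∈ (S : Subgroup G), Commute x y :=
    fun x => Iff.rfl
  have hsq : ∀ e ∈ E, e * e = 1 := fun e he => ((hEm e).1 he).2.1
  have hle : E ≤ (S : Subgroup G) := fun e he => ((hEm e).1 he).1
  have hcen : ∀ e ∈ E, ∀ x ∈ (S : Subgroup G), Commute e x := fun e he => ((hEm e).1 he).2.2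
  have hnorm : ∀ n ∈ Subgroup.normalizer ((S : Subgroup G) : Set G), ∀ e ∈ E, n * e * n⁻¹ ∈ E := by
    intro n hn e he
    refine (hEm _).2 ⟨(Subgroup.mem_normalizer_iff.1 hn e).1 (hle he),
      by rw [show n * e * n⁻¹ * (n * e * n⁻¹) = n * (e * e) * n⁻¹ by group, hsq e he, mul_one,
        mul_inv_cancel], fun y hy => ?_⟩
    have hy' : n⁻¹ * y * n ∈ (S : Subgroup G) := by
      have := (Subgroup.mem_normalizer_iff.1 (inv_mem hn) y).1 hy
      rwa [inv_inv] at this
    have := (hcen e he _ hy').map (MulAut.conj n).toMonoidHom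
    simpa [mul_assoc] using this
  -- `E` is not trivial
  haveI : Nontrivial (S : Subgroup G) := (Subgroup.nontrivial_iff_ne_bot _).2 (h.sylow_ne_bot S)
  obtain ⟨z, hzE, hz1⟩ : ∃ z ∈ E, z ≠ 1 := by
    haveI := S.isPGroup'.center_nontrivial
    obtain ⟨k, hk⟩ := IsPGroup.iff_card.1 (S.isPGroup'.to_subgroup (Subgroup.center (S : Subgroup G)))
    have hk0 : k ≠ 0 := by
      intro e
      rw [e, pow_zero] at hk
      exact absurd hk (ne_of_gt Finite.one_lt_card)
    obtain ⟨c, hc⟩ := exists_prime_orderOf_dvd_card'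
      (G := Subgroup.center (S : Subgroup G)) 2 (hk ▸ dvd_pow_self 2 hk0)
    have hc2 : ((c : (S : Subgroup G)) : G) * ((c : (S : Subgroup G)) : G) = 1 := by
      have := pow_orderOf_eq_one c
      rw [hc, pow_two] at this
      exact congrArg (fun w : Subgroup.center (S : Subgroup G) => ((w : (S : Subgroup G)) : G)) this
    refine ⟨_, (hEm _).2 ⟨(c : (S : Subgroup G)).2, hc2, fun y hy => ?_⟩, fun e => ?_⟩
    · exact congrArg Subtype.val (Subgroup.mem_center_iff.1 c.2 ⟨y, hy⟩).symm
    · have : c = 1 := Subtype.ext (Subtype.ext e)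
      rw [this, orderOf_one] at hc
      exact absurd hc (by norm_num)
  -- it has order at least four
  obtain ⟨w, hwE, hw1, hwz⟩ : ∃ w ∈ E, w ≠ 1 ∧ w ≠ z := by
    by_contra hc
    push Not at hc
    refine h.not_fixed S (hle hzE) hz1 (hsq z hzE) fun n hn => ?_
    refine hc _ (hnorm n hn z hzE) fun e => hz1 ?_
    exact conj_eq_one_iff.1 e
  obtain ⟨k, hk⟩ := IsPGroup.iff_card.1 (isPGroup_of_sq hsq)
  have hk2 : 2 ≤ k := by
    by_contra hlt
    have hle2 : Nat.card E ≤ 2 := by
      rw [hk]; exact (Nat.pow_le_pow_right (by norm_num) (by omega : k ≤ 1)).trans (by norm_num)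
    haveI := Fintype.ofFinite E
    rw [Nat.card_eq_fintype_card] at hle2
    have : 2 < Fintype.card E := Fintype.two_lt_card_iff.2
      ⟨1, ⟨z, hzE⟩, ⟨w, hwE⟩, fun e => hz1 (congrArg Subtype.val e).symm,
        fun e => hw1 (congrArg Subtype.val e).symm, fun e => hwz (congrArg Subtype.val e).symm⟩
    omega
  have hE4 : 4 ≤ Nat.card E := by
    rw [hk]; exact le_trans (by norm_num) (Nat.pow_le_pow_right (by norm_num) hk2)
  have hcard : Nat.card E = 4 := by
    by_contra hne
    have : 3 ≤ k := by
      by_contra hlt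
      exact hne (by rw [hk, show k = 2 by omega]; norm_num)
    exact h.not_eight S E hle hsq (by rw [hk]; exact le_trans (by norm_num) (Nat.pow_le_pow_right (by norm_num) this))
      E le_rfl hE4 hcen
  have hinvol : ∀ x ∈ (S : Subgroup G), x * x = 1 → x ∈ E := by
    intro x hxS hx
    by_contra hxE
    let A : Subgroup G :=
      { carrier := {a | a ∈ E ∨ a * x ∈ E}
        one_mem' := Or.inl (one_mem _)
        mul_mem' := fun {a b} ha hb => by
          rcases ha with ha | ha <;> rcases hb with hb | hb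
          · exact Or.inl (mul_mem ha hb)
          · exact Or.inr (by rw [mul_assoc]; exact mul_mem ha hb)
          · refine Or.inr ?_
            rw [mul_assoc, (hcen b hb x hxS).eq, ← mul_assoc]
            exact mul_mem ha hb
          · refine Or.inl ?_
            have := mul_mem ha hb
            have hbx : b * x = x * b := by
              calc b * x = b * x * x * x := by rw [mul_assoc (b * x) x x, hx, mul_one]
                _ = x * (b * x) * x := by rw [(hcen (b * x) hb x hxS).eq]
                _ = x * b := by rw [mul_assoc, mul_assoc b x x, hx, mul_one]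
            have e : a * b = (a * x) * (b * x) := by
              rw [hbx, mul_assoc a x, ← mul_assoc x x b, hx, one_mul]
            rwa [e]
        inv_mem' := fun {a} ha => by
          rcases ha with ha | ha
          · exact Or.inl (inv_mem ha)
          · refine Or.inr ?_
            have e : a⁻¹ * x = x * (a * x)⁻¹ * x := by group
            have hc := (hcen _ (inv_mem ha) x hxS).eq
            rw [e, ← hc, mul_assoc, hx, mul_one]
            exact inv_mem ha }
    have hAm : ∀ a, a ∈ A ↔ a ∈ E ∨ a * x ∈ E := fun a => Iff.rfl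
    have hdec : ∀ a ∈ A, a ∈ E ∨ ∃ e ∈ E, a = e * x := fun a ha =>
      ((hAm a).1 ha).imp id fun h' => ⟨_, h', by rw [mul_assoc, hx, mul_one]⟩
    refine h.not_eight S A ?_ ?_ ?_ E (fun e he => (hAm e).2 (Or.inl he)) hE4 hcen
    · intro a ha
      rcases hdec a ha with h' | ⟨e, he, rfl⟩
      exacts [hle h', mul_mem (hle he) hxS]
    · intro a ha
      rcases hdec a ha with h' | ⟨e, he, rfl⟩
      · exact hsq a h'
      · rw [(hcen e he x hxS).symm.mul_mul_mul_comm, hsq e he, hx, one_mul]
    · haveI := Fintype.ofFinite E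
      haveI := Fintype.ofFinite A
      let f : E × Bool → A := fun p => if p.2 then ⟨(p.1 : G) * x, (hAm _).2 (Or.inr (by
        rw [mul_assoc, hx, mul_one]; exact p.1.2))⟩ else ⟨p.1, (hAm _).2 (Or.inl p.1.2)⟩
      have hf : Function.Injective f := by
        rintro ⟨a, i⟩ ⟨b, j⟩ e
        cases i <;> cases j <;> simp [f] at e ⊢
        · exact e
        · exact hxE (by rw [show x = (b : G)⁻¹ * a by rw [e]; group]; exact mul_mem (inv_mem b.2) a.2)
        · exact hxE (by rw [show x = (a : G)⁻¹ * b by rw [← e]; group]; exact mul_mem (inv_mem a.2) b.2)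
        · exact e
      have := Nat.card_le_card_of_injective f hf
      rw [Nat.card_prod, hcard, Nat.card_eq_fintype_card (α := Bool), Fintype.card_bool] at this
      omega
  refine ⟨E, hle, hcard, hsq, hinvol, hcen, ?_⟩
  -- transitivity
  set R : G → G → Prop := fun a b =>
    ∃ n ∈ Subgroup.normalizer ((S : Subgroup G) : Set G), n * a * n⁻¹ = b
  have hsymm : ∀ a b, R a b → R b a := fun a b ⟨n, hn, e⟩ => ⟨n⁻¹, inv_mem hn, by rw [← e]; group⟩
  have htrans : ∀ a b c, R a b → R b c → R a c := fun a b c ⟨n, hn, e⟩ ⟨m, hm, e'⟩ =>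
    ⟨m * n, mul_mem hm hn, by rw [← e', ← e]; group⟩
  intro a ha b hb ha1 hb1
  show R a b
  by_cases hab : a = b
  · exact ⟨1, one_mem _, by rw [hab]; group⟩
  have hcases : ∀ e ∈ E, e ≠ 1 → e = a ∨ e = b ∨ e = a * b := by
    intro e he he1
    classical
    haveI := Fintype.ofFinite E
    by_contra hc
    push Not at hc
    have hab1 : a * b ≠ 1 := fun e' => hab (by
      rw [eq_inv_of_mul_eq_one_left e', inv_eq_of_mul_eq_one_right (hsq b hb)])
    have : 4 < Fintype.card E := by
      have hinj : Function.Injective ![(1 : E), ⟨a, ha⟩, ⟨b, hb⟩, ⟨a * b, mul_mem ha hb⟩, ⟨e, he⟩] := by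
        intro i j hij
        fin_cases i <;> fin_cases j <;> simp [Subtype.ext_iff] at hij ⊢ <;> first
          | exact ha1 hij | exact ha1 hij.symm | exact hb1 hij | exact hb1 hij.symm
          | exact hab hij | exact hab hij.symm | exact hab1 hij | exact hab1 hij.symm
          | exact he1 hij | exact he1 hij.symm | exact hc.1 hij | exact hc.1 hij.symm
          | exact hc.2.1 hij | exact hc.2.1 hij.symm | exact hc.2.2 hij | exact hc.2.2 hij.symm
      have := Fintype.card_le_of_injective _ hinj
      simp only [Fintype.card_fin] at this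
      omega
    rw [← Nat.card_eq_fintype_card, hcard] at this
    omega
  have hmove : ∀ e ∈ E, e ≠ 1 → ∃ e', e' ≠ e ∧ R e e' ∧ (e' = a ∨ e' = b ∨ e' = a * b) := by
    intro e he he1
    by_contra hc
    refine h.not_fixed S (hle he) he1 (hsq e he) fun n hn => ?_
    by_contra hne
    exact hc ⟨_, hne, ⟨n, hn, rfl⟩, hcases _ (hnorm n hn e he) fun e' => he1 (conj_eq_one_iff.1 e')⟩
  obtain ⟨a', ha'ne, hRa, ha'⟩ := hmove a ha ha1
  obtain ⟨b', hb'ne, hRb, hb'⟩ := hmove b hb hb1
  rcases ha' with rfl | rfl | rfl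
  · exact absurd rfl ha'ne
  · exact hRa
  · rcases hb' with rfl | rfl | rfl
    · exact hsymm _ _ hRb
    · exact absurd rfl hb'ne
    · exact htrans _ _ _ hRa (hsymm _ _ hRb)

end Min

end Cfsg.Lib.PiHom
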