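import Cfsg.Agent.Lib.PiHom.Fusion
import Cfsg.Agent.Lib.Invol.Embedded
import Cfsg.Agent.Lib.Invol.KleinFour
import Cfsg.Agent.S0204

/-!
# A minimal counterexample has no strongly embedded subgroup
-/

set_option autoImplicit false
set_option linter.style.haveILetI false
set_option linter.unusedSectionVars false

namespace Cfsg.Lib.PiHom

open scoped Pointwise

universe u

variable {π : Set ℕ} {G : Type u} [Group G] [Finite G]

/-- The elements of an odd order subgroup inverted by an involution number its index over the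
centralizer of the involution, which divides the order. -/
theorem card_inverted_dvd (σ : G →* G) (hσ : ∀ x, σ (σ x) = x) (D : Subgroup G)
    (hD : ∀ x ∈ D, σ x ∈ D) (hodd : Odd (Nat.card D)) :
    Nat.card {d : G // d ∈ D ∧ σ d = d⁻¹} ∣ Nat.card D := by
  let C : Subgroup D :=
    { carrier := {d | σ (d : G) = d}
      one_mem' := map_one σ
      mul_mem' := fun {a b} ha hb => by
        show σ ((a : G) * b) = a * b
        rw [map_mul, ha, hb]
      inv_mem' := fun {a} ha => by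
        show σ (a : G)⁻¹ = (a : G)⁻¹
        rw [map_inv, ha] }
  have hC : ∀ d : D, d ∈ C ↔ σ (d : G) = d := fun d => Iff.rfl
  let g : D → {d : G // d ∈ D ∧ σ d = d⁻¹} := fun d =>
    ⟨(d : G) * σ (d : G)⁻¹, mul_mem d.2 (hD _ (inv_mem d.2)), by
      rw [map_mul, hσ, map_inv, mul_inv_rev, inv_inv]⟩
  have hg : ∀ a b : D, g a = g b ↔ b⁻¹ * a ∈ C := by
    intro a b
    simp only [g, Subtype.mk.injEq, hC, Subgroup.coe_mul, InvMemClass.coe_inv, map_mul, map_inv]
    constructor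
    · intro e
      calc (σ (b : G))⁻¹ * σ (a : G)
          = (b : G)⁻¹ * ((b : G) * (σ (b : G))⁻¹) * σ (a : G) := by group
        _ = (b : G)⁻¹ * ((a : G) * (σ (a : G))⁻¹) * σ (a : G) := by rw [e]
        _ = (b : G)⁻¹ * a := by group
    · intro e
      calc (a : G) * (σ (a : G))⁻¹ = (b : G) * ((b : G)⁻¹ * a) * (σ (a : G))⁻¹ := by group
        _ = (b : G) * ((σ (b : G))⁻¹ * σ (a : G)) * (σ (a : G))⁻¹ := by rw [e]
        _ = (b : G) * (σ (b : G))⁻¹ := by group
  let f : D ⧸ C → {d : G // d ∈ D ∧ σ d = d⁻¹} := Quotient.lift g fun a b hab => by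
    exact ((hg b a).2 (QuotientGroup.leftRel_apply.1 hab)).symm
  have hf : Function.Bijective f := by
    constructor
    · intro a b
      induction a using QuotientGroup.induction_on
      induction b using QuotientGroup.induction_on
      intro e
      rw [QuotientGroup.eq]
      exact (hg _ _).1 e.symm
    · rintro ⟨j, hj, hσj⟩
      obtain ⟨t, ht⟩ := hodd.of_dvd_nat (Subgroup.orderOf_dvd_natCard D hj)
      refine ⟨QuotientGroup.mk ⟨j ^ (t + 1), pow_mem hj _⟩, Subtype.ext ?_⟩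
      show j ^ (t + 1) * σ (j ^ (t + 1))⁻¹ = j
      rw [map_inv, map_pow, hσj, inv_pow, inv_inv, ← pow_add,
        show t + 1 + (t + 1) = orderOf j + 1 by omega, pow_succ, pow_orderOf_eq_one, one_mul]
  rw [← Nat.card_eq_of_bijective f hf]
  exact Subgroup.index_dvd_card C

namespace Min

variable (h : Min π G)
include h

theorem not_stronglyEmbedded (M : Subgroup G) : ¬ Cfsg.IsStronglyEmbedded M := by
  intro hM
  haveI := h.simple
  obtain ⟨u, huM, hu2⟩ := Cfsg.Lib.Invol.se_exists_outside hM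
  have huu : u * u = 1 := Cfsg.Lib.Invol.inv_mul_self hu2
  have hui : u⁻¹ = u := Cfsg.Lib.Invol.inv_eq_self hu2
  set σ : G →* G := (MulAut.conj u).toMonoidHom
  have hσe : ∀ x, σ x = u * x * u := fun x => by simp [σ, hui]
  have hσ : ∀ x, σ (σ x) = x := fun x => by
    rw [hσe, hσe, show u * (u * x * u) * u = (u * u) * x * (u * u) by group, huu, one_mul, mul_one]
  set D := M ⊓ M.map σ
  have hDodd : Odd (Nat.card D) := hM.2.2 u huM
  have hDσ : ∀ x ∈ D, σ x ∈ D := by
    rintro x ⟨hx, y, hy, rfl⟩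
    exact ⟨by rw [hσ]; exact hy, _, hx, rfl⟩
  set D' := D ⊓ core π M
  have hD'σ : ∀ x ∈ D', σ x ∈ D' := fun x hx => ⟨hDσ x hx.1, (h.mem_core hM.1).2
    ⟨(hDσ x hx.1).1, (coPi_map_iff σ (MulAut.conj u).injective x).2 ((h.mem_core hM.1).1 hx.2).2⟩⟩
  -- inverted elements are π'-elements
  have hJ : ∀ d ∈ D, σ d = d⁻¹ → d ∈ D' := by
    intro d hd hdi
    refine ⟨hd, mem_core_of hd.1 fun p hp hpd hpi => ?_⟩
    have hpodd : Odd p := hDodd.of_dvd_nat (hpd.trans (Subgroup.orderOf_dvd_natCard D hd))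
    set y := d ^ (orderOf d / p)
    have hy : orderOf y = p := orderOf_pow_orderOf_div (orderOf_pos d).ne' hpd
    have hyi : σ y = y⁻¹ := by rw [map_pow, hdi, inv_pow]
    have hQ : PiGrp π (Subgroup.zpowers y) := fun q hq hqd => by
      rw [Nat.card_zpowers, hy] at hqd
      rwa [(Nat.prime_dvd_prime_iff_eq hq hp).1 hqd]
    have hn : u ∈ Subgroup.normalizer ((Subgroup.zpowers y : Subgroup G) : Set G) := by
      have key : ∀ z ∈ Subgroup.zpowers y, u * z * u⁻¹ ∈ Subgroup.zpowers y := by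
        rintro _ ⟨i, rfl⟩
        show σ (y ^ i) ∈ _
        rw [map_zpow, hyi]
        exact zpow_mem (inv_mem (Subgroup.mem_zpowers y)) i
      rw [Subgroup.mem_normalizer_iff]
      refine fun z => ⟨key z, fun hz => ?_⟩
      have := key _ hz
      simp only [hui] at this
      rwa [show u * (u * z * u) * u = (u * u) * z * (u * u) by group, huu, one_mul, mul_one] at this
    have hc := Subgroup.mem_centralizer_iff.1 (h.two_centralizes hQ
      (by rw [Nat.card_zpowers, hy]; exact hpodd) ⟨1, by rw [hu2, pow_one]⟩ hn) y (Subgroup.mem_zpowers y)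
    rw [hσe, ← hc, mul_assoc, huu, mul_one] at hyi
    have h2 : p ∣ 2 := hy ▸ orderOf_dvd_of_pow_eq_one (by rw [pow_two]; nth_rw 1 [hyi]; exact inv_mul_cancel y)
    rcases (Nat.dvd_prime Nat.prime_two).1 h2 with h2 | h2
    · exact hp.ne_one h2
    · subst h2; exact absurd hpodd (by decide)
  -- their number is the number of involutions of `M`
  obtain ⟨i, hiM, hi2⟩ := Cfsg.Lib.Invol.exists_involution_of_even hM.2.1
  have hx : (QuotientGroup.mk 1 : G ⧸ M) ≠ QuotientGroup.mk u := fun e =>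
    huM (by simpa [QuotientGroup.eq] using e)
  have hcard : Nat.card {t : G // orderOf t = 2 ∧ t ∈ M} = Nat.card {d : G // d ∈ D' ∧ σ d = d⁻¹} := by
    rw [← (Cfsg.Lib.Invol.se_swap hM hx).1]
    have hswap : ∀ w : G, orderOf w = 2 → ((w • (QuotientGroup.mk 1 : G ⧸ M) = QuotientGroup.mk u) ↔
        u * w ∈ M) := by
      intro w hw
      rw [MulAction.Quotient.smul_mk, QuotientGroup.eq, smul_eq_mul, mul_one,
        Cfsg.Lib.Invol.inv_eq_self hw, ← M.inv_mem_iff, mul_inv_rev, hui,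
        Cfsg.Lib.Invol.inv_eq_self hw]
    refine Nat.card_congr
      { toFun := fun w => ⟨w.1 * u, ?_⟩
        invFun := fun d => ⟨d.1 * u, ?_⟩
        left_inv := fun w => Subtype.ext (by show w.1 * u * u = w.1; rw [mul_assoc, huu, mul_one])
        right_inv := fun d => Subtype.ext (by show d.1 * u * u = d.1; rw [mul_assoc, huu, mul_one]) }
    · have h1 := (hswap w.1 w.2.1).1 w.2.2
      have e1 : σ (w.1 * u) = u * w.1 := by rw [hσe, mul_assoc u, mul_assoc w.1, huu, mul_one]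
      have e2 : (w.1 * u)⁻¹ = u * w.1 := by
        rw [mul_inv_rev, hui, Cfsg.Lib.Invol.inv_eq_self w.2.1]
      have hd : w.1 * u ∈ D := ⟨by rw [← inv_inv (w.1 * u), e2]; exact M.inv_mem h1,
        u * w.1, h1, by rw [← e1, hσ]⟩
      exact ⟨hJ _ hd (e1.trans e2.symm), e1.trans e2.symm⟩
    · have h1 : d.1 ∈ M := d.2.1.1.1
      have e : u * d.1 * u = d.1⁻¹ := by rw [← hσe]; exact d.2.2
      have hw : orderOf (d.1 * u) = 2 := Cfsg.Lib.Invol.orderOf_eq_two_of
        (fun e' => huM (by rw [eq_inv_of_mul_eq_one_right e']; exact inv_mem h1))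
        (by rw [show d.1 * u * (d.1 * u) = d.1 * (u * d.1 * u) by group, e, mul_inv_cancel])
      exact ⟨hw, (hswap _ hw).2 (by rw [← mul_assoc, e]; exact inv_mem h1)⟩
  have hdvd : Nat.card {t : G // orderOf t = 2 ∧ t ∈ M} ∣ Nat.card D' := hcard ▸
    card_inverted_dvd σ hσ D' hD'σ
      (hDodd.of_dvd_nat (Subgroup.card_dvd_of_le inf_le_left))
  -- transitivity
  set C : Subgroup M := Subgroup.centralizer ({(⟨i, hiM⟩ : M)} : Set M)
  have hCi : ∀ m : M, m ∈ C ↔ (m : G) * i * (m : G)⁻¹ = i := by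
    intro m
    rw [Subgroup.mem_centralizer_singleton_iff, mul_inv_eq_iff_eq_mul, Subtype.ext_iff]
    rfl
  have hindex : C.index = Nat.card {t : G // orderOf t = 2 ∧ t ∈ M} := by
    let g : M → {t : G // orderOf t = 2 ∧ t ∈ M} := fun m =>
      ⟨(m : G) * i * (m : G)⁻¹, by rw [Cfsg.Lib.Invol.orderOf_conj_eq, hi2],
        mul_mem (mul_mem m.2 hiM) (inv_mem m.2)⟩
    have hg : ∀ a b : M, g a = g b ↔ a⁻¹ * b ∈ C := by
      intro a b
      simp only [g, Subtype.mk.injEq, hCi, Subgroup.coe_mul, InvMemClass.coe_inv]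
      constructor <;> intro e
      · calc (a : G)⁻¹ * b * i * ((a : G)⁻¹ * b)⁻¹ = (a : G)⁻¹ * ((b : G) * i * (b : G)⁻¹) * a := by group
          _ = (a : G)⁻¹ * ((a : G) * i * (a : G)⁻¹) * a := by rw [e]
          _ = i := by group
      · calc (a : G) * i * (a : G)⁻¹ = (a : G) * ((a : G)⁻¹ * b * i * ((a : G)⁻¹ * b)⁻¹) * (a : G)⁻¹ := by
              rw [e]
          _ = (b : G) * i * (b : G)⁻¹ := by group
    let f : M ⧸ C → {t : G // orderOf t = 2 ∧ t ∈ M} := Quotient.lift g fun a b hab =>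
      (hg a b).2 (QuotientGroup.leftRel_apply.1 hab)
    refine Nat.card_eq_of_bijective f ⟨?_, ?_⟩
    · intro a b
      induction a using QuotientGroup.induction_on
      induction b using QuotientGroup.induction_on
      intro e
      rw [QuotientGroup.eq]
      exact (hg _ _).1 e
    · rintro ⟨t, ht, htM⟩
      obtain ⟨d, hd, hdt⟩ := Cfsg.Lib.Invol.se_transitive hM hu2 huM hi2 hiM ht htM
      exact ⟨QuotientGroup.mk ⟨d, hd.1⟩, Subtype.ext hdt⟩
  obtain ⟨K, hKn, hK, hKc, hKi⟩ := (h.closed M hM.1).exists_kernel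
  have htop : K ⊔ C = ⊤ := by
    rw [← Subgroup.index_eq_one]
    by_contra hne
    obtain ⟨p, hp, hpd⟩ := Nat.exists_prime_and_dvd hne
    have h1 : p ∈ π := hKi p hp (hpd.trans (Subgroup.index_dvd_of_le le_sup_left))
    have h2 : p ∣ Nat.card D' := ((hindex ▸ hpd.trans (Subgroup.index_dvd_of_le le_sup_right)).trans hdvd)
    haveI := Fact.mk hp
    obtain ⟨x, hx⟩ := exists_prime_orderOf_dvd_card' p h2
    exact ((h.mem_core hM.1).1 x.2.2).2 p hp (by rw [Subgroup.orderOf_coe, hx]) h1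
  have hconj : ∀ t : M, orderOf t = 2 → ∃ k ∈ K, k * ⟨i, hiM⟩ * k⁻¹ = t := by
    intro t ht
    have ht' : orderOf (t : G) = 2 := by rw [Subgroup.orderOf_coe, ht]
    obtain ⟨d, hd, hdt⟩ := Cfsg.Lib.Invol.se_transitive hM hu2 huM hi2 hiM ht' t.2
    have hm : (⟨d, hd.1⟩ : M) ∈ ((K : Set M) * (C : Set M)) := by
      rw [← Subgroup.normal_mul, htop]; trivial
    obtain ⟨k, hk, c, hc, e⟩ := hm
    refine ⟨k, hk, Subtype.ext ?_⟩
    have hc' := (hCi c).1 hc
    have e' : (k : G) * c = d := congrArg Subtype.val e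
    show (k : G) * i * (k : G)⁻¹ = t
    rw [← hdt, ← e', show (k : G) * c * i * ((k : G) * c)⁻¹ = (k : G) * ((c : G) * i * (c : G)⁻¹) * (k : G)⁻¹ by group, hc']
  -- a four-group gives two commuting involutions in `M`
  obtain ⟨E, hE⟩ := Cfsg.Agent.S0204.result (G := G) fun hc => h.noncomm inferInstance
  have hE4 : Nat.card E = 4 := IsKleinFour.card_four
  haveI : Fintype E := Fintype.ofFinite E
  obtain ⟨a, b, ha, hb, hab⟩ : ∃ a b : E, a ≠ 1 ∧ b ≠ 1 ∧ a ≠ b := by
    classical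
    have h3 : 1 < (Finset.univ.erase (1 : E)).card := by
      rw [Finset.card_erase_of_mem (Finset.mem_univ _), Finset.card_univ, ← Nat.card_eq_fintype_card,
        hE4]
      norm_num
    obtain ⟨a, ha, b, hb, hab⟩ := Finset.one_lt_card.1 h3
    exact ⟨a, b, Finset.ne_of_mem_erase ha, Finset.ne_of_mem_erase hb, hab⟩
  have haa : (a : G) * a = 1 := Cfsg.Lib.Invol.klein_mul_self a.2
  have hbb : (b : G) * b = 1 := Cfsg.Lib.Invol.klein_mul_self b.2
  have hcomm : (a : G) * b = b * a := Cfsg.Lib.Invol.klein_comm a.2 b.2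
  have ha2 : orderOf (a : G) = 2 :=
    Cfsg.Lib.Invol.orderOf_eq_two_of (fun e => ha (Subtype.ext e)) haa
  have hb2 : orderOf (b : G) = 2 :=
    Cfsg.Lib.Invol.orderOf_eq_two_of (fun e => hb (Subtype.ext e)) hbb
  obtain ⟨g, hg⟩ := isConj_iff.1 (Cfsg.Lib.Invol.se_isConj hM ha2 hi2)
  set b' := g * (b : G) * g⁻¹
  have hb'2 : orderOf b' = 2 := by rw [Cfsg.Lib.Invol.orderOf_conj_eq, hb2]
  have hb'c : Commute b' i := by
    rw [← hg]; exact (Commute.symm hcomm).map (MulAut.conj g).toMonoidHom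
  have hb'M : b' ∈ M := Cfsg.Lib.Invol.se_centralizer hM hiM hi2 hb'c
  obtain ⟨k, hk, hkt⟩ := hconj ⟨b', hb'M⟩ (by rw [Subgroup.orderOf_mk]; exact hb'2)
  have hxK : (⟨b', hb'M⟩ : M) * ⟨i, hiM⟩⁻¹ ∈ K := by
    rw [← hkt, show k * (⟨i, hiM⟩ : M) * k⁻¹ * (⟨i, hiM⟩ : M)⁻¹ =
      k * ((⟨i, hiM⟩ : M) * k⁻¹ * (⟨i, hiM⟩ : M)⁻¹) by group]
    exact mul_mem hk (hKn.conj_mem _ (inv_mem hk) _)
  have hne : (⟨b', hb'M⟩ : M) * ⟨i, hiM⟩⁻¹ ≠ 1 := by
    intro e
    have e' : b' = g * (a : G) * g⁻¹ := by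
      rw [hg]; exact congrArg Subtype.val (mul_inv_eq_one.1 e)
    exact hab (Subtype.ext ((MulAut.conj g).injective e')).symm
  refine coPi_odd h.two ((hK _).1 hxK) (dvd_of_eq (Cfsg.Lib.Invol.orderOf_eq_two_of hne ?_).symm)
  apply Subtype.ext
  simp only [Subgroup.coe_mul, InvMemClass.coe_inv, Cfsg.Lib.Invol.inv_eq_self hi2, Subgroup.coe_one]
  calc b' * i * (b' * i) = b' * (i * b') * i := by group
    _ = (b' * b') * (i * i) := by rw [← hb'c.eq]; group
    _ = 1 := by rw [Cfsg.Lib.Invol.inv_mul_self hb'2, Cfsg.Lib.Invol.inv_mul_self hi2, one_mul]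

end Min

end Cfsg.Lib.PiHom
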