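import Cfsg.Agent.Lib.PiHom.Min
import Cfsg.Agent.S0205
import Mathlib.GroupTheory.Nilpotent

/-!
# The structure of groups whose π'-elements form a subgroup

For such a group satisfying the hypotheses, the subgroup `K` of π'-elements is normal of odd order,
a complement is a π-group with a normal Sylow 2-subgroup, hence `G = K N(P)` for a Sylow 2-subgroup
`P`, and `G` is solvable.
-/

set_option autoImplicit false
set_option linter.style.haveILetI false
set_option linter.unusedSectionVars false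

namespace Cfsg.Lib.PiHom

open scoped Pointwise

universe u

variable {π : Set ℕ} {G : Type u} [Group G]

theorem core_le (U : Subgroup G) : core π U ≤ U :=
  (Subgroup.closure_le _).2 fun _ hx => hx.1

theorem mem_core_of {U : Subgroup G} {x : G} (hx : x ∈ U) (hc : CoPi π x) : x ∈ core π U :=
  Subgroup.subset_closure ⟨hx, hc⟩

theorem le_normalizer_core (U : Subgroup G) : U ≤ Subgroup.normalizer (core π U : Set G) := by
  have key : ∀ u ∈ U, ∀ w ∈ core π U, u * w * u⁻¹ ∈ core π U := by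
    intro u hu w hw
    refine Subgroup.closure_induction (fun x hx => ?_) ?_ (fun a b _ _ ha hb => ?_)
      (fun a _ ha => ?_) hw
    · exact mem_core_of (mul_mem (mul_mem hu hx.1) (inv_mem hu)) ((coPi_conj u x).2 hx.2)
    · rw [mul_one, mul_inv_cancel]; exact one_mem _
    · have e : u * (a * b) * u⁻¹ = (u * a * u⁻¹) * (u * b * u⁻¹) := by group
      rw [e]; exact mul_mem ha hb
    · have e : u * a⁻¹ * u⁻¹ = (u * a * u⁻¹)⁻¹ := by group
      rw [e]; exact inv_mem ha
  intro u hu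
  rw [Subgroup.mem_normalizer_iff]
  refine fun w => ⟨key u hu w, fun h => ?_⟩
  have := key u⁻¹ (inv_mem hu) _ h
  rwa [inv_inv, show u⁻¹ * (u * w * u⁻¹) * u = w by group] at this

variable [Finite G]

/-- The subgroup of π'-elements is normal, of π'-order and π-index. -/
theorem Closed.exists_kernel (hc : Closed π G) :
    ∃ K : Subgroup G, K.Normal ∧ (∀ x : G, x ∈ K ↔ CoPi π x) ∧
      (∀ p : ℕ, p.Prime → p ∣ Nat.card K → p ∉ π) ∧ (∀ p : ℕ, p.Prime → p ∣ K.index → p ∈ π) := by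
  obtain ⟨K, hK⟩ := hc
  refine ⟨K, ⟨fun x hx g => (hK _).2 ((coPi_conj g x).2 ((hK x).1 hx))⟩, hK, fun p hp hd => ?_,
    fun p hp hd => ?_⟩
  · haveI := Fact.mk hp
    obtain ⟨x, hx⟩ := exists_prime_orderOf_dvd_card' p hd
    exact (hK _).1 x.2 p hp (by rw [Subgroup.orderOf_coe, hx])
  · by_contra hpi
    haveI := Fact.mk hp
    obtain ⟨P⟩ := (inferInstance : Nonempty (Sylow p G))
    have hle : (P : Subgroup G) ≤ K := by
      intro x hx
      obtain ⟨k, hk⟩ := IsPGroup.iff_orderOf.1 P.isPGroup' ⟨x, hx⟩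
      rw [Subgroup.orderOf_mk] at hk
      refine (hK x).2 fun q hq hqd => ?_
      rw [hk] at hqd
      rw [(Nat.prime_dvd_prime_iff_eq hq hp).1 (hq.dvd_of_dvd_pow hqd)]
      exact hpi
    exact P.not_dvd_index (hd.trans (Subgroup.index_dvd_of_le hle))

theorem piGrp_of_isComplement {K X : Subgroup G} (hKi : ∀ p : ℕ, p.Prime → p ∣ K.index → p ∈ π)
    (hX : Subgroup.IsComplement' K X) : PiGrp π X := fun p hp hd =>
  hKi p hp (by rw [hX.symm.index_eq_card]; exact hd)

/-- Frattini form of the structure theorem. -/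
theorem Closed.exists_coPi_mul (h : Hyp π G) (hc : Closed π G) (P : Sylow 2 G) (x : G) :
    ∃ k n : G, CoPi π k ∧ n ∈ Subgroup.normalizer ((P : Subgroup G) : Set G) ∧ x = k * n := by
  haveI : Fact (Nat.Prime 2) := ⟨Nat.prime_two⟩
  obtain ⟨K, hKn, hK, hKc, hKi⟩ := hc.exists_kernel
  obtain ⟨X, hX⟩ := Subgroup.exists_right_complement'_of_coprime (N := K)
    (Nat.coprime_of_dvd fun p hp h1 h2 => hKc p hp h1 (hKi p hp h2))
  obtain ⟨T0⟩ := (inferInstance : Nonempty (Sylow 2 ↥X))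
  haveI := h.cl X (piGrp_of_isComplement hKi hX) T0
  set T : Subgroup G := (T0 : Subgroup X).map X.subtype
  have hT2 : IsPGroup 2 T := T0.isPGroup'.map X.subtype
  have hTi : ¬ 2 ∣ T.index := by
    have e1 : T.index = (T.subgroupOf X).index * X.index :=
      (Subgroup.relIndex_mul_index (Subgroup.map_subtype_le _)).symm
    rw [e1, Subgroup.subgroupOf, Subgroup.comap_map_eq_self_of_injective X.subtype_injective,
      hX.index_eq_card, Nat.prime_two.dvd_mul]
    exact fun hd => hd.elim T0.not_dvd_index fun hd => hKc 2 Nat.prime_two hd h.two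
  have hXT : ∀ y ∈ X, y ∈ Subgroup.normalizer (T : Set G) := by
    intro y hy
    have key : ∀ y ∈ X, ∀ t ∈ T, y * t * y⁻¹ ∈ T := by
      rintro y hy _ ⟨t, ht, rfl⟩
      exact ⟨⟨y, hy⟩ * t * ⟨y, hy⟩⁻¹, Subgroup.Normal.conj_mem inferInstance t ht _, rfl⟩
    rw [Subgroup.mem_normalizer_iff]
    refine fun t => ⟨key y hy t, fun h' => ?_⟩
    have := key y⁻¹ (inv_mem hy) _ h'
    rwa [inv_inv, show y⁻¹ * (y * t * y⁻¹) * y = t by group] at this
  set T' : Sylow 2 G := hT2.toSylow hTi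
  obtain ⟨u, hu⟩ := MulAction.exists_smul_eq G T' P
  obtain ⟨a, ha, -⟩ := Subgroup.isComplement'_def.1 hX |>.existsUnique u
  obtain ⟨k0, hk0⟩ := a
  have hP : ∀ y ∈ X, (k0 : G) * y * (k0 : G)⁻¹ ∈ Subgroup.normalizer ((P : Subgroup G) : Set G) := by
    intro y hy
    have hmem : ∀ t : G, t ∈ (P : Subgroup G) ↔ u⁻¹ * t * u ∈ T := by
      intro t
      rw [← hu, Sylow.coe_subgroup_smul]
      rw [Subgroup.mem_pointwise_smul_iff_inv_smul_mem]
      simp [T', MulAut.smul_def]
    rw [Subgroup.mem_normalizer_iff]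
    intro t
    have hn : (hk0 : G)⁻¹ * y * (hk0 : G) ∈ Subgroup.normalizer (T : Set G) :=
      mul_mem (mul_mem (inv_mem (hXT _ hk0.2)) (hXT y hy)) (hXT _ hk0.2)
    rw [hmem, hmem, ← ha]
    simp only [mul_inv_rev]
    rw [Subgroup.mem_normalizer_iff.1 hn]
    constructor <;> intro h' <;> simpa [mul_assoc] using h'
  obtain ⟨⟨k1, x1⟩, h1, -⟩ := Subgroup.isComplement'_def.1 hX |>.existsUnique ((k0 : G)⁻¹ * x * k0)
  refine ⟨(k0 : G) * k1 * (k0 : G)⁻¹, k0 * x1 * (k0 : G)⁻¹, ?_, hP _ x1.2, ?_⟩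
  · exact (coPi_conj _ _).2 ((hK _).1 k1.2)
  · have h1' : (k1 : G) * x1 = (k0 : G)⁻¹ * x * k0 := h1
    calc x = (k0 : G) * ((k1 : G) * x1) * (k0 : G)⁻¹ := by rw [h1']; group
      _ = _ := by group

theorem Closed.isSolvable (h : Hyp π G) (hc : Closed π G) : Group.IsSolvable G := by
  haveI : Fact (Nat.Prime 2) := ⟨Nat.prime_two⟩
  obtain ⟨K, hKn, hK, hKc, hKi⟩ := hc.exists_kernel
  obtain ⟨X, hX⟩ := Subgroup.exists_right_complement'_of_coprime (N := K)
    (Nat.coprime_of_dvd fun p hp h1 h2 => hKc p hp h1 (hKi p hp h2))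
  obtain ⟨T⟩ := (inferInstance : Nonempty (Sylow 2 ↥X))
  haveI := h.cl X (piGrp_of_isComplement hKi hX) T
  haveI : Group.IsSolvable K :=
    Cfsg.Agent.S0205.result (Nat.not_even_iff_odd.1 fun he =>
      hKc 2 Nat.prime_two (even_iff_two_dvd.1 he) h.two)
  haveI : Group.IsSolvable (T : Subgroup X) := by
    haveI := IsPGroup.isNilpotent T.isPGroup'
    infer_instance
  haveI : Group.IsSolvable (X ⧸ (T : Subgroup X)) :=
    Cfsg.Agent.S0205.result (Nat.not_even_iff_odd.1 fun he =>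
      T.not_dvd_index (even_iff_two_dvd.1 he))
  haveI : Group.IsSolvable X := Group.isSolvable_of_ker_le_range (T : Subgroup X).subtype
    (QuotientGroup.mk' (T : Subgroup X)) (by rw [QuotientGroup.ker_mk', Subgroup.range_subtype])
  have hsurj : Function.Surjective ((QuotientGroup.mk' K).comp X.subtype) := by
    intro z
    obtain ⟨g, rfl⟩ := QuotientGroup.mk'_surjective K z
    obtain ⟨⟨k, y⟩, hky, -⟩ := Subgroup.isComplement'_def.1 hX |>.existsUnique g
    refine ⟨y, ?_⟩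
    rw [MonoidHom.comp_apply, QuotientGroup.mk'_eq_mk']
    refine ⟨(y : G)⁻¹ * k * y, ?_, ?_⟩
    · have := hKn.conj_mem k k.2 (y : G)⁻¹
      rwa [inv_inv] at this
    · rw [← hky]; simp [mul_assoc]
  haveI : Group.IsSolvable (G ⧸ K) := Group.isSolvable_of_surjective hsurj
  exact Group.isSolvable_of_ker_le_range K.subtype (QuotientGroup.mk' K)
    (by rw [QuotientGroup.ker_mk', Subgroup.range_subtype])

namespace Min

variable (h : Min π G) {U : Subgroup G}
include h

/-- The core of a proper subgroup consists of its π'-elements. -/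
theorem mem_core (hU : U ≠ ⊤) {x : G} : x ∈ core π U ↔ x ∈ U ∧ CoPi π x := by
  refine ⟨fun hx => ?_, fun hx => mem_core_of hx.1 hx.2⟩
  obtain ⟨K, hK⟩ := h.closed U hU
  have hle : core π U ≤ K.map U.subtype := (Subgroup.closure_le _).2 fun y hy =>
    ⟨⟨y, hy.1⟩, (hK _).2 ((coPi_map_iff U.subtype U.subtype_injective ⟨y, hy.1⟩).1 hy.2), rfl⟩
  obtain ⟨y, hy, rfl⟩ := hle hx
  exact ⟨y.2, (coPi_map_iff U.subtype U.subtype_injective y).2 ((hK y).1 hy)⟩

theorem core_odd (hU : U ≠ ⊤) : Odd (Nat.card ↥(core π U)) := by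
  rw [← Nat.not_even_iff_odd, even_iff_two_dvd]
  intro hd
  haveI : Fact (Nat.Prime 2) := ⟨Nat.prime_two⟩
  obtain ⟨x, hx⟩ := exists_prime_orderOf_dvd_card' 2 hd
  exact coPi_odd h.two ((h.mem_core hU).1 x.2).2 (by rw [Subgroup.orderOf_coe, hx])

theorem le_normalizer_core (_hU : U ≠ ⊤) : U ≤ Subgroup.normalizer (core π U : Set G) :=
  Cfsg.Lib.PiHom.le_normalizer_core U

/-- A proper subgroup is the product of its core and the normalizer of a Sylow 2-subgroup. -/
theorem exists_core_mul (hU : U ≠ ⊤) (P : Sylow 2 ↥U) {x : G} (hx : x ∈ U) :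
    ∃ k ∈ core π U, ∃ n ∈ U,
      n ∈ Subgroup.normalizer (((P : Subgroup U).map U.subtype : Subgroup G) : Set G) ∧ x = k * n := by
  obtain ⟨k, n, hk, hn, e⟩ :=
    Closed.exists_coPi_mul (h.toHyp.subgroup U) (h.closed U hU) P ⟨x, hx⟩
  refine ⟨k, (h.mem_core hU).2 ⟨k.2, (coPi_map_iff U.subtype U.subtype_injective k).2 hk⟩, n, n.2,
    ?_, congrArg Subtype.val e⟩
  exact Subgroup.le_normalizer_map U.subtype ⟨n, hn, rfl⟩

theorem isSolvable (hU : U ≠ ⊤) : Group.IsSolvable ↥U :=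
  Closed.isSolvable (h.toHyp.subgroup U) (h.closed U hU)

end Min

end Cfsg.Lib.PiHom
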