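import Cfsg.Agent.Lib.PiHom.Fusion
import Cfsg.Agent.Lib.PiHom.Reduce
import Cfsg.Agent.S1237
import Cfsg.Agent.S0949
import Cfsg.Agent.S0483

/-!
# The Sylow 2-subgroup of a minimal counterexample

It is isomorphic to that of `PSU₃(4)`: a homocyclic one makes the Sylow 2-subgroup normal or leads to
`PSL₂(q)` or `A₇`, where an involution inverts an element of odd prime order in `π`.
-/

set_option autoImplicit false
set_option linter.style.haveILetI false
set_option linter.unusedSectionVars false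

namespace Cfsg.Lib.PiHom

open Matrix

universe u

variable {π : Set ℕ} {G : Type u} [Group G] [Finite G]

theorem sl_ext {F : Type*} [Field F] {A B : Matrix.SpecialLinearGroup (Fin 2) F}
    (h00 : A.1 0 0 = B.1 0 0) (h01 : A.1 0 1 = B.1 0 1) (h10 : A.1 1 0 = B.1 1 0)
    (h11 : A.1 1 1 = B.1 1 1) : A = B := by
  refine Subtype.ext ?_
  ext i j
  fin_cases i <;> fin_cases j
  exacts [h00, h01, h10, h11]

theorem sl_mul {F : Type*} [Field F] (A B : Matrix.SpecialLinearGroup (Fin 2) F) (i j : Fin 2) :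
    (A * B).1 i j = A.1 i 0 * B.1 0 j + A.1 i 1 * B.1 1 j := by
  rw [show (A * B).1 = A.1 * B.1 from rfl, Matrix.mul_apply, Fin.sum_univ_two]

/-- The element of `SL₂` with the given entries. -/
def slMk {F : Type*} [Field F] (a b c d : F) (h : a * d - b * c = 1) :
    Matrix.SpecialLinearGroup (Fin 2) F :=
  ⟨!![a, b; c, d], by rw [Matrix.det_fin_two_of]; exact h⟩

theorem slMk_val {F : Type*} [Field F] (a b c d : F) (h : a * d - b * c = 1) :
    (slMk a b c d h).1 = !![a, b; c, d] := rfl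

/-- The homomorphism `x ↦ (1 x; 0 1)`. -/
def unip (F : Type*) [Field F] : Multiplicative F →* Matrix.SpecialLinearGroup (Fin 2) F where
  toFun x := slMk 1 x.toAdd 0 1 (by ring)
  map_one' := by apply sl_ext <;> simp [slMk_val]
  map_mul' x y := by apply sl_ext <;> simp [slMk_val, sl_mul, add_comm]

theorem unip_val {F : Type*} [Field F] (x : Multiplicative F) :
    (unip F x).1 = !![1, x.toAdd; 0, 1] := rfl

/-- The homomorphism `v ↦ diag(v, v⁻¹)`. -/
def torus (F : Type*) [Field F] : Fˣ →* Matrix.SpecialLinearGroup (Fin 2) F where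
  toFun v := slMk (v : F) 0 0 ((v⁻¹ : Fˣ) : F) (by simp)
  map_one' := by apply sl_ext <;> simp [slMk_val]
  map_mul' x y := by apply sl_ext <;> simp [slMk_val, sl_mul, mul_comm]

theorem torus_val {F : Type*} [Field F] (v : Fˣ) :
    (torus F v).1 = !![(v : F), 0; 0, ((v⁻¹ : Fˣ) : F)] := rfl

theorem center_entries {F : Type*} [Field F] {A : Matrix.SpecialLinearGroup (Fin 2) F}
    (hA : A ∈ Subgroup.center (Matrix.SpecialLinearGroup (Fin 2) F)) :
    A.1 0 1 = 0 ∧ A.1 0 0 = A.1 1 1 := by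
  obtain ⟨r, -, hr⟩ := Matrix.SpecialLinearGroup.mem_center_iff.1 hA
  rw [← hr]
  simp [Matrix.scalar_apply]

theorem torus_mem_center {F : Type*} [Field F] {v : Fˣ}
    (hv : torus F v ∈ Subgroup.center (Matrix.SpecialLinearGroup (Fin 2) F)) : v ^ 2 = 1 := by
  have h := (center_entries hv).2
  simp [torus_val] at h
  have h' : v = v⁻¹ := Units.ext (by simpa using h)
  rw [pow_two]
  nth_rw 2 [h']
  exact mul_inv_cancel v

namespace Min

variable (h : Min π G)
include h

/-- No involution inverts an element of odd prime order in `π`. -/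
theorem not_inverted {y w : G} {r : ℕ} (hr : r.Prime) (hr2 : r ≠ 2) (hrπ : r ∈ π) (hy : orderOf y = r)
    (hw : orderOf w = 2) (hwy : w * y * w⁻¹ = y⁻¹) : False := by
  have hQ : PiGrp π (Subgroup.zpowers y) := fun q hq hqd => by
    rw [Nat.card_zpowers, hy] at hqd
    rwa [(Nat.prime_dvd_prime_iff_eq hq hr).1 hqd]
  have hn : w ∈ Subgroup.normalizer ((Subgroup.zpowers y : Subgroup G) : Set G) := by
    have hwi : w⁻¹ = w := Cfsg.Lib.Invol.inv_eq_self hw
    have key : ∀ z ∈ Subgroup.zpowers y, w * z * w⁻¹ ∈ Subgroup.zpowers y := by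
      rintro _ ⟨i, rfl⟩
      show w * y ^ i * w⁻¹ ∈ _
      rw [← conj_zpow, hwy]
      exact zpow_mem (inv_mem (Subgroup.mem_zpowers y)) i
    rw [Subgroup.mem_normalizer_iff]
    refine fun z => ⟨key z, fun hz => ?_⟩
    have := key _ hz
    rwa [hwi, show w * (w * z * w) * w = (w * w) * z * (w * w) by group,
      Cfsg.Lib.Invol.inv_mul_self hw, one_mul, mul_one] at this
  have hc := Subgroup.mem_centralizer_iff.1 (h.two_centralizes hQ
    (by rw [Nat.card_zpowers, hy]; exact hr.odd_of_ne_two hr2) ⟨1, by rw [hw, pow_one]⟩ hn)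
    y (Subgroup.mem_zpowers y)
  rw [← hc, mul_inv_cancel_right] at hwy
  have h2 : r ∣ 2 := hy ▸ orderOf_dvd_of_pow_eq_one (by
    rw [pow_two]; nth_rw 1 [hwy]; exact inv_mul_cancel y)
  exact hr2 ((Nat.prime_dvd_prime_iff_eq hr Nat.prime_two).1 h2)

theorem not_psl {F : Type*} [Field F] [Fintype F] (hodd : Odd (Fintype.card F))
    (hgt : 3 < Fintype.card F) (ψ : Matrix.SpecialLinearGroup (Fin 2) F →* G)
    (hψ : ∀ x, ψ x = 1 ↔ x ∈ Subgroup.center (Matrix.SpecialLinearGroup (Fin 2) F))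
    (hexp : ∀ g : G, (∃ k, orderOf g = 2 ^ k) → g * g = 1) (h3 : 3 ∈ π) : False := by
  haveI : Fact (Nat.Prime 3) := ⟨Nat.prime_three⟩
  haveI : Fact (Nat.Prime 2) := ⟨Nat.prime_two⟩
  have h2F : (2 : F) ≠ 0 := by
    refine Ring.two_ne_zero fun hc => ?_
    have := FiniteField.even_card_of_char_two hc
    rw [Nat.odd_iff] at hodd
    omega
  have hneg : ((-1 : Matrix.SpecialLinearGroup (Fin 2) F)) ∈
      Subgroup.center (Matrix.SpecialLinearGroup (Fin 2) F) :=
    Subgroup.mem_center_iff.2 fun g => Subtype.ext (by simp)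
  have hinv : ∀ w : Matrix.SpecialLinearGroup (Fin 2) F, w * w = -1 →
      w ∉ Subgroup.center (Matrix.SpecialLinearGroup (Fin 2) F) → orderOf (ψ w) = 2 := by
    intro w hw hwc
    refine Cfsg.Lib.Invol.orderOf_eq_two_of (fun e => hwc ((hψ w).1 e)) ?_
    rw [← map_mul, hw, hψ]
    exact hneg
  by_cases h3F : (3 : F) = 0
  · obtain ⟨k, hk⟩ : ∃ k : ℕ, Fintype.card F = 3 ^ k := by
      haveI : CharP F 3 :=
        ringChar.of_eq (CharP.ringChar_of_prime_eq_zero Nat.prime_three (by exact_mod_cast h3F))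
      obtain ⟨n, -, hn⟩ := FiniteField.card F 3
      exact ⟨n, hn⟩
    have hcard : Nat.card Fˣ = Fintype.card F - 1 := by
      rw [Nat.card_units, Nat.card_eq_fintype_card]
    have h8 : ¬ 8 ∣ Fintype.card F - 1 := by
      intro h8
      obtain ⟨g, hg⟩ := IsCyclic.exists_generator (α := Fˣ)
      have hgo : orderOf g = Fintype.card F - 1 := by
        rw [orderOf_eq_card_of_forall_mem_zpowers hg, hcard]
      have hv : orderOf (g ^ (orderOf g / 8)) = 8 :=
        orderOf_pow_orderOf_div (orderOf_pos g).ne' (hgo ▸ h8)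
      set v := g ^ (orderOf g / 8)
      have h1 : orderOf (ψ (torus F v)) ∣ 2 ^ 3 := by
        refine orderOf_dvd_of_pow_eq_one ?_
        rw [← map_pow, ← map_pow, show (2 : ℕ) ^ 3 = orderOf v by rw [hv]; norm_num,
          pow_orderOf_eq_one, map_one, map_one]
      obtain ⟨j, -, hj⟩ := (Nat.dvd_prime_pow Nat.prime_two).1 h1
      have h2 := hexp _ ⟨j, hj⟩
      rw [← map_mul, ← map_mul, hψ] at h2
      have h4 := torus_mem_center h2
      rw [← pow_two, ← pow_mul] at h4
      have := orderOf_dvd_of_pow_eq_one h4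
      rw [hv] at this
      norm_num at this
    obtain ⟨r, hr, hrd, hr2⟩ : ∃ r : ℕ, r.Prime ∧ r ∣ Fintype.card F - 1 ∧ r ≠ 2 := by
      by_contra hc
      push Not at hc
      have hj := Nat.eq_prime_pow_of_unique_prime_dvd (p := 2) (n := Fintype.card F - 1) (by omega)
        (fun {d} hd hdd => hc d hd hdd)
      set j := (Fintype.card F - 1).primeFactorsList.length
      have hj2 : j ≤ 2 := by
        by_contra hlt
        exact h8 (hj ▸ dvd_trans (by norm_num) (pow_dvd_pow 2 (by omega : 3 ≤ j)))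
      have h5 : Fintype.card F - 1 = 4 := by interval_cases j <;> simp_all <;> omega
      have h5' : (3 : ℕ) ^ k = 5 := by omega
      rcases Nat.eq_zero_or_pos k with rfl | hk0
      · norm_num at h5'
      · have := dvd_pow_self 3 (Nat.pos_iff_ne_zero.1 hk0)
        rw [h5'] at this
        norm_num at this
    haveI := Fact.mk hr
    obtain ⟨v, hv⟩ := exists_prime_orderOf_dvd_card' r (hcard ▸ hrd)
    have hv2 : v ^ 2 ≠ 1 := fun e => hr2 ((Nat.prime_dvd_prime_iff_eq hr Nat.prime_two).1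
      (hv ▸ orderOf_dvd_of_pow_eq_one e))
    set y := ψ (torus F v)
    have hy : orderOf y = r := by
      refine orderOf_eq_prime ?_ fun e => hv2 (torus_mem_center ((hψ _).1 e))
      rw [← map_pow, ← map_pow, ← hv, pow_orderOf_eq_one, map_one, map_one]
    have hrπ : r ∈ π := by
      by_contra hrπ
      set U := (ψ.comp (unip F)).range
      have hU : PiGrp π U := fun p hp hd => by
        have hd' : p ∣ 3 ^ k := by
          rw [← hk, ← Nat.card_eq_fintype_card]
          exact (hd.trans (Subgroup.card_range_dvd _)).trans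
            (dvd_of_eq (Nat.card_congr Multiplicative.toAdd))
        rw [(Nat.prime_dvd_prime_iff_eq hp Nat.prime_three).1 (hp.dvd_of_dvd_pow hd')]
        exact h3
      have hconj : ∀ (v : Fˣ) (x : F), torus F v * unip F (Multiplicative.ofAdd x) * (torus F v)⁻¹ =
          unip F (Multiplicative.ofAdd ((v : F) * x * v)) := by
        intro v x
        rw [mul_inv_eq_iff_eq_mul]
        apply sl_ext <;> simp [torus_val, unip_val, sl_mul, mul_assoc]
      have hn : y ∈ Subgroup.normalizer (U : Set G) := by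
        rw [Subgroup.mem_normalizer_iff]
        have key : ∀ v : Fˣ, ∀ g ∈ U, ψ (torus F v) * g * (ψ (torus F v))⁻¹ ∈ U := by
          rintro v _ ⟨x, rfl⟩
          refine ⟨Multiplicative.ofAdd ((v : F) * x.toAdd * v), ?_⟩
          simp only [MonoidHom.comp_apply]
          rw [← hconj, ofAdd_toAdd, map_mul, map_mul, map_inv]
        refine fun g => ⟨key v g, fun hg => ?_⟩
        have := key v⁻¹ _ hg
        rw [map_inv, map_inv, inv_inv] at this
        simpa [y, mul_assoc] using this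
      have hyc : CoPi π y := fun q hq hqd => by
        rw [hy] at hqd
        rwa [(Nat.prime_dvd_prime_iff_eq hq hr).1 hqd]
      have hc := Subgroup.mem_centralizer_iff.1 (h.coPi_centralizes hU hyc hn)
        (ψ (unip F (Multiplicative.ofAdd 1))) ⟨_, rfl⟩
      have e1 : ψ (unip F (Multiplicative.ofAdd ((v : F) * 1 * v))) =
          ψ (unip F (Multiplicative.ofAdd 1)) := by
        rw [← hconj, map_mul, map_mul, map_inv, ← hc, mul_inv_cancel_right]
      have e2 : ψ (unip F (Multiplicative.ofAdd ((v : F) * 1 * v - 1))) = 1 := by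
        rw [sub_eq_add_neg, ofAdd_add, ofAdd_neg, map_mul, map_mul, map_inv, map_inv, e1,
          mul_inv_cancel]
      have h0 := (center_entries ((hψ _).1 e2)).1
      rw [unip_val] at h0; simp at h0
      refine hv2 (Units.ext ?_)
      rw [pow_two, Units.val_mul, Units.val_one]
      exact sub_eq_zero.1 h0
    let w : Matrix.SpecialLinearGroup (Fin 2) F := slMk 0 1 (-1) 0 (by ring)
    refine h.not_inverted hr hr2 hrπ hy (hinv w ?_ fun hc => ?_) (w := ψ w) ?_
    · apply sl_ext <;> simp [w, slMk_val, sl_mul]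
    · simpa [w, slMk_val] using (center_entries hc).1
    · rw [show y⁻¹ = ψ (torus F v⁻¹) by rw [map_inv, map_inv], ← map_inv, ← map_mul, ← map_mul]
      congr 1
      rw [mul_inv_eq_iff_eq_mul]
      apply sl_ext <;> simp [w, torus_val, slMk_val, sl_mul]
  · obtain ⟨s, t, hst⟩ := FiniteField.exists_root_sum_quadratic (R := F)
      (f := Polynomial.C 1 * Polynomial.X ^ 2 + Polynomial.C 0 * Polynomial.X + Polynomial.C 1)
      (g := Polynomial.C (3 / 4 : F) * Polynomial.X ^ 2 + Polynomial.C 0 * Polynomial.X + Polynomial.C 0)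
      (Polynomial.degree_quadratic one_ne_zero)
      (Polynomial.degree_quadratic (div_ne_zero h3F (by
        rw [show (4 : F) = 2 * 2 by norm_num]; exact mul_ne_zero h2F h2F)))
      (Nat.odd_iff.1 hodd)
    simp at hst
    set a := s - t / 2
    have hab : a * a + a * t + t * t = -1 := by
      have h4 : (4 : F) ≠ 0 := by rw [show (4 : F) = 2 * 2 by norm_num]; exact mul_ne_zero h2F h2F
      field_simp at hst
      simp only [a]
      field_simp
      linear_combination hst
    let x : Matrix.SpecialLinearGroup (Fin 2) F := slMk 0 (-1) 1 (-1) (by ring)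
    let w : Matrix.SpecialLinearGroup (Fin 2) F := slMk a t (a + t) (-a) (by linear_combination -hab)
    have hx : orderOf (ψ x) = 3 := by
      refine orderOf_eq_prime ?_ fun e => ?_
      · have e : x ^ 3 = 1 := by
          rw [pow_succ, pow_two]
          apply sl_ext <;> simp [x, slMk_val, sl_mul]
        rw [← map_pow, e, map_one]
      · simpa [x, slMk_val] using (center_entries ((hψ x).1 e)).1
    refine h.not_inverted Nat.prime_three (by norm_num) h3 hx (w := ψ w) (hinv w ?_ fun hc => ?_) ?_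
    · apply sl_ext <;> simp [w, slMk_val, sl_mul] <;>
        first | ring1 | linear_combination hab
    · obtain ⟨e1, e2⟩ := center_entries hc
      simp [w, slMk_val] at e1 e2
      have ha0 : a = 0 := by
        have : (2 : F) * a = 0 := by linear_combination e2
        exact (mul_eq_zero.1 this).resolve_left h2F
      rw [ha0, e1] at hab
      simp at hab
    · rw [← map_inv, ← map_inv, ← map_mul, ← map_mul]
      congr 1
      have e : x * (w * x) = w := by
        apply sl_ext <;> simp [w, x, slMk_val, sl_mul] <;> ring1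
      calc w * x * w⁻¹ = x⁻¹ * (x * (w * x)) * w⁻¹ := by group
        _ = x⁻¹ := by rw [e, mul_inv_cancel_right]

variable (S : Sylow 2 G) (E : Subgroup G) (hE : Three π S E)
include hE

theorem exists_three_cycle : ∃ g ∈ Subgroup.normalizer ((S : Subgroup G) : Set G), ∃ a : G,
    a ∈ E ∧ a ≠ 1 ∧ g * a * g⁻¹ ≠ a ∧ g * (g * a * g⁻¹) * g⁻¹ ≠ a ∧
    (∀ e ∈ E, e ≠ 1 → e = a ∨ e = g * a * g⁻¹ ∨ e = g * (g * a * g⁻¹) * g⁻¹) ∧
    g * (g * (g * a * g⁻¹) * g⁻¹) * g⁻¹ = a := by
  classical
  haveI := Fintype.ofFinite E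
  set X := (Finset.univ.erase (1 : E)).map ⟨Subtype.val, Subtype.val_injective⟩ with hX
  have hXc : X.card = 3 := by
    rw [hX, Finset.card_map, Finset.card_erase_of_mem (Finset.mem_univ _), Finset.card_univ,
      ← Nat.card_eq_fintype_card, hE.card]
  obtain ⟨a, b, c, hab, hac, hbc, hXe⟩ := Finset.card_eq_three.1 hXc
  have hmem : ∀ e, e ∈ X ↔ e ∈ E ∧ e ≠ 1 := by
    intro e
    simp only [hX, Finset.mem_map, Finset.mem_erase, Finset.mem_univ, and_true]
    constructor
    · rintro ⟨w, hw, rfl⟩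
      exact ⟨w.2, fun e => hw (Subtype.ext e)⟩
    · rintro ⟨he, h1⟩
      exact ⟨⟨e, he⟩, fun e' => h1 (congrArg Subtype.val e'), rfl⟩
  obtain ⟨ha, ha1⟩ := (hmem a).1 (by rw [hXe]; simp)
  obtain ⟨hb, hb1⟩ := (hmem b).1 (by rw [hXe]; simp)
  obtain ⟨hc, hc1⟩ := (hmem c).1 (by rw [hXe]; simp)
  have hall : ∀ e ∈ E, e ≠ 1 → e = a ∨ e = b ∨ e = c := fun e he h1 => by
    have := (hmem e).2 ⟨he, h1⟩
    rw [hXe] at this
    simpa using this
  have hperm : ∀ n ∈ Subgroup.normalizer ((S : Subgroup G) : Set G), ∀ e ∈ E, e ≠ 1 →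
      n * e * n⁻¹ = a ∨ n * e * n⁻¹ = b ∨ n * e * n⁻¹ = c := fun n hn e he h1 =>
    hall _ (hE.invol _ ((Subgroup.mem_normalizer_iff.1 hn e).1 (hE.le he))
      (by rw [show n * e * n⁻¹ * (n * e * n⁻¹) = n * (e * e) * n⁻¹ by group, hE.sq e he, mul_one,
        mul_inv_cancel])) fun e' => h1 (conj_eq_one_iff.1 e')
  have hinj : ∀ (n : G) {x y : G}, n * x * n⁻¹ = n * y * n⁻¹ → x = y := fun n x y e =>
    (MulAut.conj n).injective e
  obtain ⟨n1, hn1, e1⟩ := hE.trans a ha b hb ha1 hb1
  rcases hperm n1 hn1 b hb hb1 with eb | eb | eb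
  · have ec : n1 * c * n1⁻¹ = c := by
      rcases hperm n1 hn1 c hc hc1 with h' | h' | h'
      · exact absurd (hinj n1 (h'.trans eb.symm)) hbc.symm
      · exact absurd (hinj n1 (h'.trans e1.symm)) hac.symm
      · exact h'
    obtain ⟨n2, hn2, e2⟩ := hE.trans a ha c hc ha1 hc1
    rcases hperm n2 hn2 c hc hc1 with ec2 | ec2 | ec2
    · have eb2 : n2 * b * n2⁻¹ = b := by
        rcases hperm n2 hn2 b hb hb1 with h' | h' | h'
        · exact absurd (hinj n2 (h'.trans ec2.symm)) hbc
        · exact h'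
        · exact absurd (hinj n2 (h'.trans e2.symm)) hab.symm
      have f : ∀ x, n1 * n2 * x * (n1 * n2)⁻¹ = n1 * (n2 * x * n2⁻¹) * n1⁻¹ := fun x => by group
      refine ⟨n1 * n2, mul_mem hn1 hn2, a, ha, ha1, ?_⟩
      rw [f a, e2, ec, f c, ec2, e1, f b, eb2, eb]
      exact ⟨hac.symm, hab.symm, fun e he h1 => (hall e he h1).imp id Or.symm, rfl⟩
    · refine ⟨n2, hn2, a, ha, ha1, ?_⟩
      have eb2 : n2 * b * n2⁻¹ = a := by
        rcases hperm n2 hn2 b hb hb1 with h' | h' | h'
        · exact h'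
        · exact absurd (hinj n2 (h'.trans ec2.symm)) hbc
        · exact absurd (hinj n2 (h'.trans e2.symm)) hab.symm
      rw [e2, ec2, eb2]
      exact ⟨hac.symm, hab.symm, fun e he h1 => (hall e he h1).imp id Or.symm, rfl⟩
    · exact absurd (hinj n2 (ec2.trans e2.symm)) hac.symm
  · exact absurd (hinj n1 (eb.trans e1.symm)) hab.symm
  · refine ⟨n1, hn1, a, ha, ha1, ?_⟩
    have ec : n1 * c * n1⁻¹ = a := by
      rcases hperm n1 hn1 c hc hc1 with h' | h' | h'
      · exact h'
      · exact absurd (hinj n1 (h'.trans e1.symm)) hac.symm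
      · exact absurd (hinj n1 (h'.trans eb.symm)) hbc.symm
    rw [e1, eb, ec]
    exact ⟨hab.symm, hac.symm, hall, rfl⟩

theorem three_mem : 3 ∈ π := by
  haveI : Fact (Nat.Prime 3) := ⟨Nat.prime_three⟩
  obtain ⟨g, hg, a, ha, ha1, hga, -, hall, hcyc⟩ := h.exists_three_cycle S E hE
  have hne : E ≠ ⊥ := fun e => ha1 (Subgroup.mem_bot.1 (e ▸ ha))
  have hpi : PiGrp π E := piGrp_of_two h.two (S.isPGroup'.to_le hE.le)
  have hgN : g ∈ Subgroup.normalizer (E : Set G) := by
    have key : ∀ n ∈ Subgroup.normalizer ((S : Subgroup G) : Set G), ∀ e ∈ E, n * e * n⁻¹ ∈ E :=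
      fun n hn e he => hE.invol _ ((Subgroup.mem_normalizer_iff.1 hn e).1 (hE.le he))
        (by rw [show n * e * n⁻¹ * (n * e * n⁻¹) = n * (e * e) * n⁻¹ by group, hE.sq e he, mul_one,
          mul_inv_cancel])
    rw [Subgroup.mem_normalizer_iff]
    refine fun e => ⟨key g hg e, fun he => ?_⟩
    have := key g⁻¹ (inv_mem hg) _ he
    rwa [inv_inv, show g⁻¹ * (g * e * g⁻¹) * g = e by group] at this
  have h3c : g ^ 3 ∈ Subgroup.centralizer (E : Set G) := by
    have f : ∀ x : G, g ^ 3 * x * (g ^ 3)⁻¹ = g * (g * (g * x * g⁻¹) * g⁻¹) * g⁻¹ := fun x => by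
      rw [pow_succ, pow_two]; simp [mul_assoc]
    refine Subgroup.mem_centralizer_iff.2 fun e he => ?_
    have he' : g ^ 3 * e * (g ^ 3)⁻¹ = e := by
      by_cases h1 : e = 1
      · rw [h1]; group
      rw [f]
      rcases hall e he h1 with rfl | rfl | rfl
      · exact hcyc
      · rw [hcyc]
      · rw [hcyc]
    exact (mul_inv_eq_iff_eq_mul.1 he').symm
  refine h.hom E hne hpi 3 Nat.prime_three ?_
  haveI : ((Subgroup.centralizer (E : Set G)).subgroupOf (Subgroup.normalizer (E : Set G))).Normal :=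
    inferInstance
  set q : _ ⧸ (Subgroup.centralizer (E : Set G)).subgroupOf (Subgroup.normalizer (E : Set G)) :=
    QuotientGroup.mk ⟨g, hgN⟩
  have hq : orderOf q = 3 := by
    refine orderOf_eq_prime ?_ fun e => hga ?_
    · rw [← QuotientGroup.mk_pow, QuotientGroup.eq_one_iff, Subgroup.mem_subgroupOf]
      exact h3c
    · rw [QuotientGroup.eq_one_iff, Subgroup.mem_subgroupOf, Subgroup.mem_centralizer_iff] at e
      rw [← e a ha, mul_inv_cancel_right]
  rw [Subgroup.relIndex, Subgroup.index, ← hq]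
  exact orderOf_dvd_natCard q

theorem not_four (hsqS : ∀ x ∈ (S : Subgroup G), x * x = 1) : False := by
  haveI : Fact (Nat.Prime 2) := ⟨Nat.prime_two⟩
  haveI := h.simple
  have h3 := h.three_mem S E hE
  have hexp : ∀ g : G, (∃ k, orderOf g = 2 ^ k) → g * g = 1 := by
    rintro g ⟨k, hk⟩
    obtain ⟨Q, hQ⟩ := (IsPGroup.of_card (n := k) (by rw [Nat.card_zpowers, hk]) :
      IsPGroup 2 (Subgroup.zpowers g)).exists_le_sylow
    obtain ⟨c, hc⟩ := MulAction.exists_smul_eq G Q S
    have h1 : c * g * c⁻¹ ∈ (S : Subgroup G) := by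
      rw [← hc, Sylow.coe_subgroup_smul]
      exact ⟨g, hQ (Subgroup.mem_zpowers g), by simp [MulAut.smul_def]⟩
    have h2 := hsqS _ h1
    rwa [show c * g * c⁻¹ * (c * g * c⁻¹) = c * (g * g) * c⁻¹ by group, conj_eq_one_iff] at h2
  have hScard : Nat.card (S : Subgroup G) = 4 := by
    rw [show (S : Subgroup G) = E from le_antisymm (fun x hx => hE.invol x hx (hsqS x hx)) hE.le]
    exact hE.card
  haveI : IsKleinFour (S : Subgroup G) := by
    refine ⟨hScard, ?_⟩
    refine ((Nat.dvd_prime Nat.prime_two).1 (Monoid.exponent_dvd_of_forall_pow_eq_one fun x => ?_)).resolve_left ?_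
    · exact Subtype.ext (by rw [Subgroup.coe_pow, pow_two]; exact hsqS x x.2)
    · intro e
      haveI := Monoid.exp_eq_one_iff.1 e
      rw [Nat.card_unique] at hScard
      norm_num at hScard
  haveI : Group.IsPerfect G := ⟨by
    refine (IsSimpleGroup.eq_bot_or_eq_top_of_normal (commutator G) inferInstance).resolve_left fun e => ?_
    exact h.noncomm ⟨⟨fun a b => commutatorElement_eq_one_iff_mul_comm.1
      (Subgroup.mem_bot.1 (e ▸ Subgroup.commutator_mem_commutator (Subgroup.mem_top a) (Subgroup.mem_top b)))⟩⟩⟩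
  have hodd : Cfsg.oddCore G = ⊥ := by
    refine (IsSimpleGroup.eq_bot_or_eq_top_of_normal (Cfsg.oddCore G) inferInstance).resolve_right fun e => ?_
    have := Cfsg.Lib.ZStar.odd_card_oddCore (G := G)
    rw [e, Subgroup.card_top] at this
    exact Nat.not_even_iff_odd.2 this h.even_card
  let e0 : G ⧸ Cfsg.oddCore G ≃* G :=
    (QuotientGroup.quotientMulEquivOfEq hodd).trans QuotientGroup.quotientBot
  rcases Cfsg.Agent.S0483.result S 2 le_rfl IsKleinFour.nonempty_mulEquiv with
    ⟨F, _, _, hFodd, hFgt, ⟨e⟩⟩ | ⟨⟨e⟩⟩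
  · refine h.not_psl hFodd hFgt ((e.symm.trans e0).toMonoidHom.comp (QuotientGroup.mk' _)) (fun x => ?_)
      hexp h3
    simp
  · have hdvd := S.card_eq_multiplicity
    rw [hScard, ← Nat.card_congr (e.symm.trans e0).toEquiv, nat_card_alternatingGroup, Nat.card_fin] at hdvd
    have h8 : ((Nat.factorial 7 / 2).factorization 2) = 3 := by
      rw [show Nat.factorial 7 / 2 = 2 ^ 3 * 315 by rfl, Nat.factorization_mul (by norm_num) (by norm_num),
        Finsupp.add_apply, Nat.Prime.factorization_pow Nat.prime_two, Finsupp.single_eq_same,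
        Nat.factorization_eq_zero_of_not_dvd (by norm_num : ¬ 2 ∣ 315)]
    rw [h8] at hdvd
    norm_num at hdvd

theorem sylow_u34 {F : Type} [Field F] [Fintype F] (hF : Fintype.card F = 16)
    (P : Sylow 2 (Cfsg.PSU 3 F 4)) :
    Nonempty ((S : Subgroup G) ≃* (P : Subgroup (Cfsg.PSU 3 F 4))) := by
  haveI : Fact (Nat.Prime 2) := ⟨Nat.prime_two⟩
  obtain ⟨g, hg, a, ha, ha1, -, -, hall, hcyc⟩ := h.exists_three_cycle S E hE
  have hle2 : Cfsg.PRankLE 2 2 (S : Subgroup G) := by
    intro A _ hA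
    refine le_trans (Nat.card_le_card_of_injective (fun x : A => (⟨((x : (S : Subgroup G)) : G),
      hE.invol _ (x : (S : Subgroup G)).2 (by
        have := hA (x : (S : Subgroup G)) x.2
        rw [pow_two] at this
        exact congrArg Subtype.val this)⟩ : E)) ?_) (le_of_eq hE.card)
    intro x y e
    exact Subtype.ext (Subtype.ext (congrArg (fun z : E => (z : G)) e))
  have hnle1 : ¬ Cfsg.PRankLE 2 1 (S : Subgroup G) := by
    intro hc
    have := hc (E.subgroupOf (S : Subgroup G))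
      ⟨⟨fun x y => Subtype.ext (Subtype.ext (hE.central _ x.2 _ (y : (S : Subgroup G)).2).eq)⟩⟩
      (fun x hx => Subtype.ext (by rw [Subgroup.coe_pow, pow_two]; exact hE.sq _ hx))
    rw [Nat.card_congr (Subgroup.subgroupOfEquivOfLe hE.le).toEquiv, hE.card] at this
    norm_num at this
  let φ : MulAut (S : Subgroup G) :=
    { toFun := fun x => ⟨g * x * g⁻¹, (Subgroup.mem_normalizer_iff.1 hg _).1 x.2⟩
      invFun := fun x => ⟨g⁻¹ * x * g, by
        have := (Subgroup.mem_normalizer_iff.1 (inv_mem hg) (x : G)).1 x.2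
        rwa [inv_inv] at this⟩
      left_inv := fun x => Subtype.ext (by
        show g⁻¹ * (g * (x : G) * g⁻¹) * g = x; group)
      right_inv := fun x => Subtype.ext (by
        show g * (g⁻¹ * (x : G) * g) * g⁻¹ = x; group)
      map_mul' := fun x y => Subtype.ext (by
        show g * ((x : G) * y) * g⁻¹ = (g * x * g⁻¹) * (g * y * g⁻¹); group) }
  have hφ : ∀ x : (S : Subgroup G), ((φ x : (S : Subgroup G)) : G) = g * x * g⁻¹ := fun x => rfl
  have hinv : ∀ s : (S : Subgroup G), orderOf s = 2 →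
      (s : G) = a ∨ (s : G) = g * a * g⁻¹ ∨ (s : G) = g * (g * a * g⁻¹) * g⁻¹ := by
    intro s hs
    rw [← Subgroup.orderOf_coe] at hs
    exact hall _ (hE.invol _ s.2 (Cfsg.Lib.Invol.inv_mul_self hs)) (Cfsg.Lib.Invol.ne_one hs)
  have htrans : ∀ s t : (S : Subgroup G), orderOf s = 2 → orderOf t = 2 → ∃ k : ℕ, (φ ^ k) s = t := by
    intro s t hs ht
    have h1 : ∀ k : ℕ, ∀ s : (S : Subgroup G), (((φ ^ (k + 1)) s : (S : Subgroup G)) : G) =
        g * (((φ ^ k) s : (S : Subgroup G)) : G) * g⁻¹ := fun k s => by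
      rw [pow_succ', MulAut.mul_apply, hφ]
    have h0 : ∀ s : (S : Subgroup G), (((φ ^ 0) s : (S : Subgroup G)) : G) = s := fun s => by simp
    have k1 : (((φ ^ 1) s : (S : Subgroup G)) : G) = g * s * g⁻¹ := by rw [h1, h0]
    have k2 : (((φ ^ 2) s : (S : Subgroup G)) : G) = g * (g * s * g⁻¹) * g⁻¹ := by rw [h1, k1]
    rcases hinv s hs with es | es | es <;> rcases hinv t ht with et | et | et <;>
      rw [es] at k1 k2
    · exact ⟨0, Subtype.ext ((h0 s).trans (es.trans et.symm))⟩
    · exact ⟨1, Subtype.ext (k1.trans et.symm)⟩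
    · exact ⟨2, Subtype.ext (k2.trans et.symm)⟩
    · exact ⟨2, Subtype.ext ((k2.trans hcyc).trans et.symm)⟩
    · exact ⟨0, Subtype.ext ((h0 s).trans (es.trans et.symm))⟩
    · exact ⟨1, Subtype.ext (k1.trans et.symm)⟩
    · exact ⟨1, Subtype.ext ((k1.trans hcyc).trans et.symm)⟩
    · exact ⟨2, Subtype.ext (by rw [k2, hcyc, et])⟩
    · exact ⟨0, Subtype.ext ((h0 s).trans (es.trans et.symm))⟩
  refine (Cfsg.Agent.S1237.result S.isPGroup' hle2 hnle1 φ htrans hF P).resolve_left ?_
  rintro ⟨n, hn, ⟨e⟩⟩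
  by_cases hn2 : 2 ≤ n
  · haveI := h.simple
    obtain ⟨hN, -, -⟩ := Cfsg.Agent.S0949.result S n hn2 e fun N hN hodd =>
      (IsSimpleGroup.eq_bot_or_eq_top_of_normal N hN).resolve_right fun e => by
        rw [e, Subgroup.card_top] at hodd
        exact Nat.not_even_iff_odd.2 hodd h.even_card
    exact (IsSimpleGroup.eq_bot_or_eq_top_of_normal _ hN).elim (h.sylow_ne_bot S) (h.two_ne_top S.isPGroup')
  · obtain rfl : n = 1 := by omega
    refine h.not_four S E hE fun x hx => ?_
    have h2 : ∀ z : Multiplicative (ZMod (2 ^ 1) × ZMod (2 ^ 1)), z * z = 1 := by decide +revert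
    exact congrArg Subtype.val (e.injective (a₁ := ⟨x, hx⟩ * ⟨x, hx⟩) (a₂ := 1) (by
      rw [map_mul, map_one]; exact h2 _))

end Min

end Cfsg.Lib.PiHom
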